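import Cfsg.Agent.H704.Defs

/-!
# `NotHalf` (helper797, S4766)
-/

set_option autoImplicit false

namespace Cfsg.Agent.H797.AD

open Cfsg.Agent.H704

/-- there is a self-conjugate partition of `n` such that half of its degree is not a degree of the symmetric group -/
def NotHalf (n : ℕ) : Prop :=
  ∃ l : List ℕ, IsPart l n ∧ transpose l = l ∧ ∀ l' : List ℕ, IsPart l' n → hookProd l' ≠ 2 * hookProd l

end Cfsg.Agent.H797.AD
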