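import Cfsg.Agent.H797.AD.TooSmall

/-!
# Near-hooks with one inner box, `n` even (helper797, S4766 O1)

`nh1_even` : `(a + 1) (a - 1)! (b + 1) (b - 1)! ≠ 2 m² ((m - 2)!)²` for `a + b = 2 m - 2`, `m ≥ 271`, `5 (a - b) ≤ 2 m`.
-/

set_option autoImplicit false

namespace Cfsg.Agent.H797.AD

open Finset Cfsg.Agent.H704 Cfsg.Agent.H211.O1

/-- the product `k (k + 1) ... (k + j - 1)` against `(k - 1) ... (k - j)` -/
theorem ratio_bound (k : ℤ) (hk : 1 ≤ k) : ∀ j : ℕ, (j : ℤ) ^ 2 ≤ 2 * k - 1 → (j : ℤ) ≤ k →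
    (∏ i ∈ range j, (k + i)) * (2 * k - 1 - (j : ℤ) ^ 2) ≤ (∏ i ∈ range j, (k - 1 - i)) * (2 * k - 1 + (j : ℤ) ^ 2) := by
  intro j
  induction j with
  | zero => intro _ _; simp
  | succ j ih =>
    intro h hj
    push_cast at h hj
    have hj0 : (0 : ℤ) ≤ j := Int.natCast_nonneg j
    have h1 : (j : ℤ) ^ 2 < 2 * k - 1 := by nlinarith
    have h2 := ih h1.le (by omega)
    have hP : 0 < ∏ i ∈ range j, (k + (i : ℤ)) := prod_pos fun i _ => by
      have : (0 : ℤ) ≤ i := Int.natCast_nonneg i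
      omega
    have hQ : 0 ≤ ∏ i ∈ range j, (k - 1 - (i : ℤ)) := prod_nonneg fun i hi => by
      rw [mem_range] at hi
      omega
    rw [prod_range_succ, prod_range_succ]
    push_cast
    generalize (∏ i ∈ range j, (k + (i : ℤ))) = P at *
    generalize (∏ i ∈ range j, (k - 1 - (i : ℤ))) = Q at *
    have hd : 0 < 2 * k - 1 - (j : ℤ) ^ 2 := by omega
    have hk1 : 0 ≤ k - 1 - (j : ℤ) := by omega
    have hc : 0 ≤ 2 * k - 1 - ((j : ℤ) + 1) ^ 2 := by omega
    apply le_of_mul_le_mul_right _ hd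
    have h3 : P * (2 * k - 1 - (j : ℤ) ^ 2) * ((k + j) * (2 * k - 1 - ((j : ℤ) + 1) ^ 2)) ≤
        Q * (2 * k - 1 + (j : ℤ) ^ 2) * ((k + j) * (2 * k - 1 - ((j : ℤ) + 1) ^ 2)) :=
      mul_le_mul_of_nonneg_right h2 (mul_nonneg (by omega) hc)
    have h4 : (2 * k - 1 + (j : ℤ) ^ 2) * ((k + j) * (2 * k - 1 - ((j : ℤ) + 1) ^ 2)) ≤
        (k - 1 - j) * (2 * k - 1 + ((j : ℤ) + 1) ^ 2) * (2 * k - 1 - (j : ℤ) ^ 2) := by
      have h5 : 0 ≤ (2 * (j : ℤ) + 1) * ((j : ℤ) ^ 2 * ((j : ℤ) + 1) ^ 2) := by positivity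
      nlinarith
    calc P * (k + j) * (2 * k - 1 - ((j : ℤ) + 1) ^ 2) * (2 * k - 1 - (j : ℤ) ^ 2)
        = P * (2 * k - 1 - (j : ℤ) ^ 2) * ((k + j) * (2 * k - 1 - ((j : ℤ) + 1) ^ 2)) := by ring
      _ ≤ Q * (2 * k - 1 + (j : ℤ) ^ 2) * ((k + j) * (2 * k - 1 - ((j : ℤ) + 1) ^ 2)) := h3
      _ = Q * ((2 * k - 1 + (j : ℤ) ^ 2) * ((k + j) * (2 * k - 1 - ((j : ℤ) + 1) ^ 2))) := by ring
      _ ≤ Q * ((k - 1 - j) * (2 * k - 1 + ((j : ℤ) + 1) ^ 2) * (2 * k - 1 - (j : ℤ) ^ 2)) :=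
        mul_le_mul_of_nonneg_left h4 hQ
      _ = _ := by ring

/-- the products as ascending factorials -/
theorem asc_eq_prod (a d : ℕ) : ((a.ascFactorial d : ℕ) : ℤ) = ∏ i ∈ range d, ((a : ℤ) + i) := by
  induction d with
  | zero => simp
  | succ d ih => rw [Nat.ascFactorial_succ, prod_range_succ, ← ih]; push_cast; ring

theorem asc_eq_prod' (c d : ℕ) : (((c + 1).ascFactorial d : ℕ) : ℤ) = ∏ i ∈ range d, (((c + 1 + d : ℕ) : ℤ) - 1 - i) := by
  rw [asc_eq_prod, ← prod_range_reflect]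
  apply prod_congr rfl
  intro j hj
  rw [mem_range] at hj
  have : ((d - 1 - j : ℕ) : ℤ) = (d : ℤ) - 1 - j := by omega
  rw [this]
  push_cast
  ring

/-- the size -/
theorem three_sq {c d : ℕ} (hc : 10 ≤ c) (hd : 1 ≤ d)
    (h : (c + 2 * d + 2) * (c + 2) * (c + d + 1).ascFactorial d = 2 * (c + d + 2) ^ 2 * (c + 1).ascFactorial d) :
    2 * (c + d + 1) ≤ 3 * d ^ 2 + 1 := by
  by_cases hbig : 2 * (c + d + 1) ≤ d ^ 2 + 1
  · nlinarith
  rw [not_le] at hbig
  have h1 := ratio_bound ((c + 1 + d : ℕ) : ℤ) (by omega) d (by push_cast; zify at hbig; linarith)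
    (by push_cast; linarith [Int.natCast_nonneg c])
  rw [← asc_eq_prod', ← asc_eq_prod] at h1
  rw [show c + 1 + d = c + d + 1 by ring] at h1
  have hP : 2 * (c + 1).ascFactorial d ≤ (c + d + 1).ascFactorial d := by
    have h2 : (c + 2 * d + 2) * (c + 2) ≤ (c + d + 2) ^ 2 := by nlinarith [Nat.zero_le (d ^ 2)]
    have hpos : 0 < (c + d + 2) ^ 2 := by positivity
    apply Nat.le_of_mul_le_mul_left _ hpos
    calc (c + d + 2) ^ 2 * (2 * (c + 1).ascFactorial d) = 2 * (c + d + 2) ^ 2 * (c + 1).ascFactorial d := by ring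
      _ = (c + 2 * d + 2) * (c + 2) * (c + d + 1).ascFactorial d := h.symm
      _ ≤ _ := Nat.mul_le_mul_right _ h2
  have hQ : (0 : ℤ) < ((c + 1).ascFactorial d : ℕ) := by exact_mod_cast Nat.ascFactorial_pos _ _
  have hP' : 2 * (((c + 1).ascFactorial d : ℕ) : ℤ) ≤ ((c + d + 1).ascFactorial d : ℕ) := by exact_mod_cast hP
  have hK : (0 : ℤ) < 2 * ((c + d + 1 : ℕ) : ℤ) - 1 - (d : ℤ) ^ 2 := by
    push_cast
    zify at hbig
    linarith
  have h3 : 2 * (((c + 1).ascFactorial d : ℕ) : ℤ) * (2 * ((c + d + 1 : ℕ) : ℤ) - 1 - (d : ℤ) ^ 2) ≤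
      ((c + 1).ascFactorial d : ℕ) * (2 * ((c + d + 1 : ℕ) : ℤ) - 1 + (d : ℤ) ^ 2) :=
    (mul_le_mul_of_nonneg_right hP' hK.le).trans h1
  have h4 : 2 * (2 * ((c + d + 1 : ℕ) : ℤ) - 1 - (d : ℤ) ^ 2) ≤ 2 * ((c + d + 1 : ℕ) : ℤ) - 1 + (d : ℤ) ^ 2 := by
    apply le_of_mul_le_mul_left _ hQ
    linarith
  zify
  push_cast at h4
  linarith

/-- a prime divides at most one number of a short interval -/
theorem not_dvd_near {q x y : ℕ} (hx : q ∣ x) (hxy : x < y) (hyq : y < x + q) : ¬ q ∣ y := fun h => by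
  have h1 := Nat.dvd_sub h hx
  have := Nat.le_of_dvd (by omega) h1
  omega

theorem not_dvd_near' {q x y : ℕ} (hx : q ∣ x) (hxy : y < x) (hyq : x < y + q) : ¬ q ∣ y := fun h => by
  have h1 := Nat.dvd_sub hx h
  have := Nat.le_of_dvd (by omega) h1
  omega

/-- **A prime near the middle.** -/
theorem false_of_prime {c d q : ℕ} (hc : 100 ≤ c) (hd2 : 2 ≤ d) (hY : 10 * d ≤ 2 * (c + d + 2))
    (h : (c + 2 * d + 2) * (c + 2) * (c + d + 1).ascFactorial d = 2 * (c + d + 2) ^ 2 * (c + 1).ascFactorial d)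
    (hq : q.Prime) (h1 : c + 2 < q) (h2 : q ≤ c + 2 * d) (h3 : q ≠ c + d + 1) : False := by
  rcases Nat.lt_trichotomy q (c + d + 2) with h4 | h4 | h4
  · -- `q = k - i` divides only the right hand side
    have h5 : q ∣ (c + 1).ascFactorial d := dvd_asc (j := q - (c + 1)) (by omega) (by
      rw [show c + 1 + (q - (c + 1)) = q by omega])
    have h6 : q ∣ (c + 2 * d + 2) * (c + 2) * (c + d + 1).ascFactorial d := by rw [h]; exact h5.mul_left _
    rcases hq.dvd_mul.1 h6 with h7 | h7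
    · rcases hq.dvd_mul.1 h7 with h8 | h8
      · exact not_dvd_near (dvd_refl q) (by omega) (by omega) h8
      · have := Nat.le_of_dvd (by omega) h8
        omega
    · obtain ⟨j, hj, h8⟩ := prime_dvd_asc hq h7
      exact not_dvd_near (dvd_refl q) (by omega) (by omega) h8
  · -- `q = m`
    obtain ⟨e, rfl⟩ : ∃ e, d = e + 2 := ⟨d - 2, by omega⟩
    have h5 : (c + (e + 2) + 1).ascFactorial (e + 2) =
        (c + (e + 2) + 1) * ((c + (e + 2) + 2) * (c + (e + 2) + 3).ascFactorial e) := by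
      rw [Nat.ascFactorial_eq_prod_range, Nat.ascFactorial_eq_prod_range, prod_range_succ', prod_range_succ']
      have : ∏ k ∈ range e, (c + (e + 2) + 1 + (k + 1 + 1)) = ∏ i ∈ range e, (c + (e + 2) + 3 + i) := by
        apply prod_congr rfl
        intro i _
        ring
      rw [this]
      ring
    rw [h5] at h
    have hpos : 0 < c + (e + 2) + 2 := by omega
    have h6 : (c + 2 * (e + 2) + 2) * (c + 2) * ((c + (e + 2) + 1) * (c + (e + 2) + 3).ascFactorial e) =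
        2 * (c + (e + 2) + 2) * (c + 1).ascFactorial (e + 2) := by
      apply Nat.eq_of_mul_eq_mul_left hpos
      calc _ = (c + 2 * (e + 2) + 2) * (c + 2) * ((c + (e + 2) + 1) * ((c + (e + 2) + 2) *
            (c + (e + 2) + 3).ascFactorial e)) := by ring
        _ = _ := by rw [h]; ring
    have h7 : q ∣ (c + 2 * (e + 2) + 2) * (c + 2) * ((c + (e + 2) + 1) * (c + (e + 2) + 3).ascFactorial e) := by
      rw [h6, h4]
      exact (Dvd.intro_left _ rfl : (c + (e + 2) + 2) ∣ 2 * (c + (e + 2) + 2)).mul_right _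
    rcases hq.dvd_mul.1 h7 with h8 | h8
    · rcases hq.dvd_mul.1 h8 with h9 | h9
      · exact not_dvd_near (dvd_refl q) (by omega) (by omega) h9
      · have := Nat.le_of_dvd (by omega) h9
        omega
    · rcases hq.dvd_mul.1 h8 with h9 | h9
      · have := Nat.le_of_dvd (by omega) h9
        omega
      · obtain ⟨j, hj, h10⟩ := prime_dvd_asc hq h9
        exact not_dvd_near (dvd_refl q) (by omega) (by omega) h10
  · -- `q > m` divides only the left hand side
    have h5 : q ∣ (c + d + 1).ascFactorial d := dvd_asc (j := q - (c + d + 1)) (by omega) (by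
      rw [show c + d + 1 + (q - (c + d + 1)) = q by omega])
    have h6 : q ∣ 2 * (c + d + 2) ^ 2 * (c + 1).ascFactorial d := by rw [← h]; exact h5.mul_left _
    rcases hq.dvd_mul.1 h6 with h7 | h7
    · rcases hq.dvd_mul.1 h7 with h8 | h8
      · have := Nat.le_of_dvd (by omega) h8
        omega
      · have := Nat.le_of_dvd (by omega) (hq.dvd_of_dvd_pow h8)
        omega
    · obtain ⟨j, hj, h8⟩ := prime_dvd_asc hq h7
      have := Nat.le_of_dvd (by omega) h8
      omega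

/-- the prime near the middle (helper301's table) -/
def NearPrime : Prop := ∀ m : ℕ, 271 ≤ m → m < 10000 → ∃ q : ℕ, q.Prime ∧ q ≠ m - 1 ∧
  ((q ≤ m ∧ 2 * (m - q + 1) ^ 2 ≤ m) ∨ (m < q ∧ 2 * (q + 2 - m) ^ 2 ≤ m))

/-- the count for large `m` (helper463) -/
def ErdosB : Prop := ∀ k a b Y E h F : ℕ, 10000 ≤ k → a = b + Y → b ≤ k → k ≤ a → 5 * Y ≤ 2 * k → 2 * k ≤ Y ^ 2 →
  a.factorial * b.factorial * (E * h) = k.factorial ^ 2 * F → 0 < F → (∀ p : ℕ, p.Prime → p ∣ h → p ≤ Y) →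
  E * F ≤ (3 * k) ^ 4 → False

/-- **near-hook, `s = 1`, `n` even** -/
theorem nh1_even (hP : NearPrime) (hE : ErdosB) {m a b : ℕ} {σ : List ℕ} (hm : 271 ≤ m) (hσ : IsPart σ 1)
    (hn : 2 * m = a + b + 1 + 1) (hba : b ≤ a) (hY : 5 * a ≤ 2 * m + 5 * b)
    (heq : (a + b + 1) * G a (fun j => σ.getD j 0) * G b (colLen σ) * hookProd σ =
      2 * ((2 * m - 1) * m ^ 2 * (m - 2).factorial ^ 2)) : False := by
  rw [eq_one_of_isPart hσ] at heq
  obtain ⟨c, rfl⟩ : ∃ c, b = c + 1 := ⟨b - 1, by omega⟩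
  obtain ⟨d, rfl⟩ : ∃ d, a = c + 2 * d + 1 := ⟨(a - c - 1) / 2, by omega⟩
  have hmc : m = c + d + 2 := by omega
  subst hmc
  rw [G_one, G_colLen_one, hookProd_one, show c + 2 * d + 1 + (c + 1) + 1 = 2 * (c + d + 2) - 1 by omega,
    show c + d + 2 - 2 = c + d by omega] at heq
  have hpos : 0 < 2 * (c + d + 2) - 1 := by omega
  have h0 : (c + 2 * d + 2) * (c + 2 * d).factorial * ((c + 2) * c.factorial) =
      2 * (c + d + 2) ^ 2 * (c + d).factorial ^ 2 := by
    apply Nat.eq_of_mul_eq_mul_left hpos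
    calc _ = (2 * (c + d + 2) - 1) * ((c + 2 * d + 2) * (c + 2 * d).factorial) * ((c + 2) * c.factorial) * 1 := by ring
      _ = _ := by rw [heq]; ring
  have h1 : (c + 2 * d + 2) * (c + 2) * (c + d + 1).ascFactorial d = 2 * (c + d + 2) ^ 2 * (c + 1).ascFactorial d := by
    have e1 := Nat.factorial_mul_ascFactorial (c + d) d
    have e2 := Nat.factorial_mul_ascFactorial c d
    have hp2 : 0 < (c + d).factorial * c.factorial := Nat.mul_pos (Nat.factorial_pos _) (Nat.factorial_pos _)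
    apply Nat.eq_of_mul_eq_mul_left hp2
    calc (c + d).factorial * c.factorial * ((c + 2 * d + 2) * (c + 2) * (c + d + 1).ascFactorial d)
        = (c + 2 * d + 2) * ((c + d).factorial * (c + d + 1).ascFactorial d) * ((c + 2) * c.factorial) := by ring
      _ = (c + 2 * d + 2) * (c + 2 * d).factorial * ((c + 2) * c.factorial) := by
        rw [e1, show c + d + d = c + 2 * d by ring]
      _ = 2 * (c + d + 2) ^ 2 * (c + d).factorial ^ 2 := h0
      _ = 2 * (c + d + 2) ^ 2 * ((c + d).factorial * (c.factorial * (c + 1).ascFactorial d)) := by rw [e2]; ring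
      _ = _ := by ring
  have hd1 : 1 ≤ d := by
    rcases Nat.eq_zero_or_pos d with rfl | h
    · simp at h1
      nlinarith
    · exact h
  have h2 := three_sq (by omega) hd1 h1
  have hd2 : 2 ≤ d := by nlinarith
  rcases Nat.lt_or_ge (c + d + 2) 10000 with h10 | h10
  · obtain ⟨q, hq, hq1, hq2⟩ := hP (c + d + 2) hm h10
    have hq1' : q ≠ c + d + 1 := by omega
    rcases hq2 with ⟨h3, h4⟩ | ⟨h3, h4⟩
    · obtain ⟨i, hi⟩ : ∃ i, c + d + 2 - q = i := ⟨_, rfl⟩
      rw [hi] at h4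
      have h5 : i + 1 < d := by
        by_contra hne
        rw [not_lt] at hne
        nlinarith
      exact false_of_prime (by omega) hd2 (by omega) h1 hq (by omega) (by omega) hq1'
    · obtain ⟨i, hi⟩ : ∃ i, q - (c + d + 2) = i := ⟨_, rfl⟩
      rw [show q + 2 - (c + d + 2) = i + 2 by omega] at h4
      have h5 : i + 2 < d + 1 := by
        by_contra hne
        rw [not_lt] at hne
        nlinarith
      exact false_of_prime (by omega) hd2 (by omega) h1 hq (by omega) (by omega) hq1'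
  · refine hE (c + d + 2) (c + 2 * d + 2) (c + 2) (2 * d) ((c + d + 1) ^ 2) 1 (2 * ((c + 2 * d + 1) * (c + 1))) h10
      (by ring) (by omega) (by omega) (by omega) ?_ ?_ (by positivity) ?_ ?_
    · nlinarith
    · rw [Nat.factorial_succ (c + 2 * d + 1), Nat.factorial_succ (c + 2 * d), Nat.factorial_succ (c + 1), Nat.factorial_succ c,
        Nat.factorial_succ (c + d + 1), Nat.factorial_succ (c + d)]
      calc _ = ((c + 2 * d + 2) * (c + 2 * d).factorial * ((c + 2) * c.factorial)) *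
            ((c + 2 * d + 1) * (c + 1) * (c + d + 1) ^ 2) := by ring
        _ = _ := by rw [h0]; ring
    · intro p hp hd
      have := Nat.le_of_dvd one_pos hd
      have := hp.two_le
      omega
    · have h3 : (c + 2 * d + 1) * (c + 1) ≤ (c + d + 1) ^ 2 := by nlinarith [Nat.zero_le (d ^ 2)]
      have h4 : (c + d + 1) ^ 2 * (2 * ((c + 2 * d + 1) * (c + 1))) ≤ 2 * (c + d + 1) ^ 4 := by
        calc _ ≤ (c + d + 1) ^ 2 * (2 * (c + d + 1) ^ 2) := by gcongr
          _ = _ := by ring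
      have h5 : (c + d + 1) ^ 4 ≤ (c + d + 2) ^ 4 := Nat.pow_le_pow_left (by omega) 4
      calc _ ≤ 2 * (c + d + 1) ^ 4 := h4
        _ ≤ 81 * (c + d + 2) ^ 4 := by omega
        _ = _ := by ring

end Cfsg.Agent.H797.AD
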