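import Cfsg.Agent.H797.AD.PureHook
import Cfsg.Agent.H211.O1.GForm

/-!
# The cases with a small inner partition (helper797, S4766 O1)

`n = 2 m + 1`, `hookProd λ = (2 m + 1) (m !)²`, or `n = 2 m`, `hookProd λ = (2 m - 1) m² ((m - 2)!)²`.

* `nh0_odd` : near-hook, `s = 0`, `n` odd (Sylvester);
* `nh0_even` : near-hook, `s = 0`, `n` even;
* `nh1_even` : near-hook, `s = 1`, `n` even;
* `rows0_odd`, `rows0_even`, `rows1_even` : two rows, `s = 0`, `s = 0`, `s = 1`.
-/

set_option autoImplicit false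

namespace Cfsg.Agent.H797.AD

open Finset Cfsg.Agent.H704 Cfsg.Agent.H211.O1

theorem eq_nil_of_isPart {σ : List ℕ} (h : IsPart σ 0) : σ = [] := by
  cases σ with
  | nil => rfl
  | cons a l =>
    have h1 := h.sum
    have h2 := h.pos a (by simp)
    rw [List.sum_cons] at h1
    omega

theorem eq_one_of_isPart {σ : List ℕ} (h : IsPart σ 1) : σ = [1] := by
  cases σ with
  | nil => have h1 := h.sum; simp at h1
  | cons a l =>
    have h1 := h.sum
    have h2 := h.pos a (by simp)
    rw [List.sum_cons] at h1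
    have h3 : l = [] := by
      cases l with
      | nil => rfl
      | cons b l =>
        have h4 := h.pos b (by simp)
        rw [List.sum_cons] at h1
        omega
    subst h3
    rw [List.sum_nil] at h1
    rw [show a = 1 by omega]

theorem G_nil (x : ℕ) : G x (fun j => ([] : List ℕ).getD j 0) = x.factorial := G_const_zero (by intro j _; simp)

theorem G_colLen_nil (x : ℕ) : G x (colLen []) = x.factorial := G_const_zero (by intro j _; rfl)

theorem G_one (x : ℕ) : G (x + 1) (fun j => ([1] : List ℕ).getD j 0) = (x + 2) * x.factorial := by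
  rw [G_succ, G_const_zero (x := x) (by intro j _; simp)]
  simp

theorem G_colLen_one (x : ℕ) : G (x + 1) (colLen [1]) = (x + 2) * x.factorial := by
  rw [G_succ, G_const_zero (x := x) (by
    intro j _
    rw [colLen_eq_zero]
    intro a ha
    rw [List.mem_singleton.1 ha]
    omega)]
  congr 1

theorem hookProd_one : hookProd [1] = 1 := by decide

theorem hookProd_nil' : hookProd [] = 1 := rfl

/-- near-hook, `s = 0`, `n` odd -/
theorem nh0_odd {m a b : ℕ} {σ : List ℕ} (hm : 2 ≤ m) (hσ : IsPart σ 0) (hn : 2 * m + 1 = a + b + 1) (hba : b ≤ a)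
    (heq : (a + b + 1) * G a (fun j => σ.getD j 0) * G b (colLen σ) * hookProd σ =
      2 * ((2 * m + 1) * m.factorial ^ 2)) : False := by
  rw [eq_nil_of_isPart hσ, G_nil, G_colLen_nil, hookProd_nil', ← hn] at heq
  obtain ⟨t, rfl⟩ : ∃ t, a = m + t := ⟨a - m, by omega⟩
  have hb : b = m - t := by omega
  subst hb
  apply pure_hook (t := t) hm (by omega)
  apply Nat.eq_of_mul_eq_mul_left (show 0 < 2 * m + 1 by omega)
  calc (2 * m + 1) * ((m + t).factorial * (m - t).factorial) = (2 * m + 1) * (m + t).factorial * (m - t).factorial * 1 := by ring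
    _ = _ := by rw [heq]; ring

theorem asc_mono {a b : ℕ} (h : a ≤ b) (k : ℕ) : a.ascFactorial k ≤ b.ascFactorial k := by
  induction k with
  | zero => simp
  | succ k ih =>
    rw [Nat.ascFactorial_succ, Nat.ascFactorial_succ]
    exact Nat.mul_le_mul (by omega) ih

/-- `(a + t)! a! ≥ ((a + t)...)`: the product of factorials with a fixed sum is smallest in the middle -/
theorem fact_mid (a : ℕ) : ∀ t : ℕ, (a + t).factorial * (a + t).factorial ≤ (a + 2 * t).factorial * a.factorial := by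
  intro t
  have e1 := Nat.factorial_mul_ascFactorial (a + t) t
  have e2 := Nat.factorial_mul_ascFactorial a t
  have h : (a + 1).ascFactorial t ≤ (a + t + 1).ascFactorial t := asc_mono (by omega) t
  calc (a + t).factorial * (a + t).factorial = (a + t).factorial * (a.factorial * (a + 1).ascFactorial t) := by rw [e2]
    _ ≤ (a + t).factorial * (a.factorial * (a + t + 1).ascFactorial t) := by gcongr
    _ = (a + t).factorial * (a + t + 1).ascFactorial t * a.factorial := by ring
    _ = _ := by rw [e1, show a + t + t = a + 2 * t by ring]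

/-- the second order: `(m !)² (m + t²) ≤ m (m + t)! (m - t)!` -/
theorem fact_quad (a : ℕ) : ∀ t : ℕ, ((a + t).factorial) ^ 2 * (a + t + t ^ 2) ≤
    (a + t) * ((a + 2 * t).factorial * a.factorial) := by
  intro t
  -- `∏_{j<t} (m + j + 1) / (m - j)`, with `m = a + t`
  have key : ∀ k, k ≤ t → ((a + t).factorial) ^ 2 * (a + t + k ^ 2) ≤
      (a + t) * ((a + t + k).factorial * (a + t - k).factorial) := by
    intro k
    induction k with
    | zero => intro _; rw [Nat.sub_zero]; simp only [add_zero, zero_pow (two_ne_zero)]; apply le_of_eq; ring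
    | succ k ih =>
      intro hk
      have h1 := ih (by omega)
      obtain ⟨c, hc⟩ : ∃ c, a + t - k = c + 1 := ⟨a + t - k - 1, by omega⟩
      have hc' : a + t - (k + 1) = c := by omega
      have hac : a + t = c + 1 + k := by omega
      rw [hc, Nat.factorial_succ c] at h1
      rw [hc', show a + t + (k + 1) = (a + t + k) + 1 by ring, Nat.factorial_succ (a + t + k)]
      -- multiply by `c + 1`
      have hpos : 0 < c + 1 := Nat.succ_pos c
      apply Nat.le_of_mul_le_mul_left _ hpos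
      have h2 : (c + 1) * (a + t + (k + 1) ^ 2) ≤ (a + t + k + 1) * (a + t + k ^ 2) := by
        rw [hac]
        nlinarith [Nat.zero_le (k * k * k), Nat.zero_le (c * k)]
      calc (c + 1) * ((a + t).factorial ^ 2 * (a + t + (k + 1) ^ 2))
          = (a + t).factorial ^ 2 * ((c + 1) * (a + t + (k + 1) ^ 2)) := by ring
        _ ≤ (a + t).factorial ^ 2 * ((a + t + k + 1) * (a + t + k ^ 2)) := by gcongr
        _ = (a + t + k + 1) * ((a + t).factorial ^ 2 * (a + t + k ^ 2)) := by ring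
        _ ≤ (a + t + k + 1) * ((a + t) * ((a + t + k).factorial * ((c + 1) * c.factorial))) := by gcongr
        _ = _ := by ring
  have h := key t le_rfl
  rw [show a + t + t = a + 2 * t by ring, show a + t - t = a by omega] at h
  exact h

/-- near-hook, `s = 0`, `n` even -/
theorem nh0_even {m a b : ℕ} {σ : List ℕ} (hm : 5 ≤ m) (hσ : IsPart σ 0) (hn : 2 * m = a + b + 1) (hba : b ≤ a)
    (heq : (a + b + 1) * G a (fun j => σ.getD j 0) * G b (colLen σ) * hookProd σ =
      2 * ((2 * m - 1) * m ^ 2 * (m - 2).factorial ^ 2)) : False := by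
  rw [eq_nil_of_isPart hσ, G_nil, G_colLen_nil, hookProd_nil', ← hn] at heq
  obtain ⟨k, rfl⟩ : ∃ k, m = k + 2 := ⟨m - 2, by omega⟩
  obtain ⟨t, rfl⟩ : ∃ t, a = b + 1 + 2 * t := ⟨(a - b - 1) / 2, by omega⟩
  have hb : b + t = k + 1 := by omega
  have h1 := fact_mid b t
  rw [hb, Nat.factorial_succ] at h1
  have h2 : (b + 1 + 2 * t).factorial = (b + 1 + 2 * t) * (b + 2 * t).factorial := by
    rw [show b + 1 + 2 * t = (b + 2 * t) + 1 by ring, Nat.factorial_succ]
  have h3 : k + 2 ≤ b + 1 + 2 * t := by omega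
  have h4 : (k + 2) * ((k + 1) * k.factorial * ((k + 1) * k.factorial)) ≤ (b + 1 + 2 * t).factorial * b.factorial := by
    rw [h2, mul_assoc (b + 1 + 2 * t)]
    exact Nat.mul_le_mul h3 h1
  have h5 : 2 * (k + 2) * ((k + 2) * ((k + 1) * k.factorial * ((k + 1) * k.factorial))) ≤
      2 * ((2 * (k + 2) - 1) * (k + 2) ^ 2 * (k + 2 - 2).factorial ^ 2) := by
    rw [← heq]
    calc _ ≤ 2 * (k + 2) * ((b + 1 + 2 * t).factorial * b.factorial) := Nat.mul_le_mul_left _ h4
      _ = _ := by ring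
  rw [show 2 * (k + 2) - 1 = 2 * k + 3 by omega, show k + 2 - 2 = k by omega] at h5
  have hf : 0 < k.factorial ^ 2 := pow_pos (Nat.factorial_pos k) 2
  have h6 : (k + 1) ^ 2 * (2 * (k + 2) ^ 2 * k.factorial ^ 2) ≤ (2 * k + 3) * (2 * (k + 2) ^ 2 * k.factorial ^ 2) := by
    calc (k + 1) ^ 2 * (2 * (k + 2) ^ 2 * k.factorial ^ 2) =
        2 * (k + 2) * ((k + 2) * ((k + 1) * k.factorial * ((k + 1) * k.factorial))) := by ring
      _ ≤ _ := h5
      _ = _ := by ring
  have h7 := Nat.le_of_mul_le_mul_right h6 (by positivity)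
  nlinarith

/-- two rows, `s = 0`, `n` odd -/
theorem rows0_odd {m A B : ℕ} {ρ : List ℕ} (hm : 24 ≤ m) (hl : IsPart (A :: B :: ρ) (2 * m + 1)) (hρ : IsPart ρ 0)
    (heq : hookProd (A :: B :: ρ) = 2 * ((2 * m + 1) * m.factorial ^ 2)) : False := by
  have hAB : B ≤ A := List.rel_of_pairwise_cons hl.sorted (by simp)
  have hform := rows_form hl
  have hρ0 := eq_nil_of_isPart hρ
  have hs := hl.sum
  subst hρ0
  rw [G_colLen_nil, G_colLen_nil, hookProd_nil', heq, mul_one] at hform
  rw [List.sum_cons, List.sum_cons, List.sum_nil] at hs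
  obtain ⟨t, rfl⟩ : ∃ t, A = B + 2 * t - 1 := ⟨(A + 1 - B) / 2, by omega⟩
  have ht : 1 ≤ t := by omega
  have hBt : B + t = m + 1 := by omega
  have h1 := fact_quad B t
  rw [hBt] at h1
  rw [show B + 2 * t - 1 + 1 = B + 2 * t by omega, show B + 2 * t - B = 2 * t by omega] at hform
  rw [← hform, Nat.factorial_succ] at h1
  have hf : 0 < m.factorial ^ 2 := pow_pos (Nat.factorial_pos m) 2
  have h2 : ((m + 1) * (m + 1 + t ^ 2)) * ((m + 1) * m.factorial ^ 2) ≤ (2 * (2 * m + 1) * (2 * t)) * ((m + 1) * m.factorial ^ 2) := by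
    calc _ = ((m + 1) * m.factorial) ^ 2 * (m + 1 + t ^ 2) := by ring
      _ ≤ _ := h1
      _ = _ := by ring
  have h3 := Nat.le_of_mul_le_mul_right h2 (by positivity)
  -- `(m + 1) (m + 1 + t²) > 4 t (2 m + 1)`
  have h4 : 10 * t ≤ m + 1 + t ^ 2 := by
    have : (10 * t : ℤ) ≤ m + 1 + t ^ 2 := by nlinarith [sq_nonneg ((t : ℤ) - 5)]
    exact_mod_cast this
  have h5 : (m + 1) * (10 * t) ≤ 2 * (2 * m + 1) * (2 * t) := (Nat.mul_le_mul_left _ h4).trans h3
  nlinarith

/-- two rows, `s = 0`, `n` even -/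
theorem rows0_even {m A B : ℕ} {ρ : List ℕ} (hm : 24 ≤ m) (hl : IsPart (A :: B :: ρ) (2 * m)) (hρ : IsPart ρ 0)
    (heq : hookProd (A :: B :: ρ) = 2 * ((2 * m - 1) * m ^ 2 * (m - 2).factorial ^ 2)) : False := by
  have hAB : B ≤ A := List.rel_of_pairwise_cons hl.sorted (by simp)
  have hform := rows_form hl
  have hρ0 := eq_nil_of_isPart hρ
  have hs := hl.sum
  subst hρ0
  rw [G_colLen_nil, G_colLen_nil, hookProd_nil', heq, mul_one] at hform
  rw [List.sum_cons, List.sum_cons, List.sum_nil] at hs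
  obtain ⟨k, rfl⟩ : ∃ k, m = k + 2 := ⟨m - 2, by omega⟩
  obtain ⟨t, rfl⟩ : ∃ t, A = B + 2 * t := ⟨(A - B) / 2, by omega⟩
  have hBt : B + t = k + 2 := by omega
  have h1 := fact_mid B t
  rw [hBt, Nat.factorial_succ, Nat.factorial_succ] at h1
  rw [Nat.factorial_succ (B + 2 * t), show B + 2 * t + 1 - B = 2 * t + 1 by omega, show 2 * (k + 2) - 1 = 2 * k + 3 by omega,
    show k + 2 - 2 = k by omega] at hform
  have hf : 0 < k.factorial ^ 2 := pow_pos (Nat.factorial_pos k) 2
  have h2 : ((k + 3) * (k + 1) ^ 2) * ((k + 2) ^ 2 * k.factorial ^ 2) ≤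
      (2 * (2 * k + 3) * (2 * k + 5)) * ((k + 2) ^ 2 * k.factorial ^ 2) := by
    calc _ = (k + 3) * ((k + 1 + 1) * ((k + 1) * k.factorial) * ((k + 1 + 1) * ((k + 1) * k.factorial))) := by ring
      _ ≤ (B + 2 * t + 1) * ((B + 2 * t).factorial * B.factorial) := Nat.mul_le_mul (by omega) h1
      _ = (B + 2 * t + 1) * (B + 2 * t).factorial * B.factorial := by ring
      _ = 2 * ((2 * k + 3) * (k + 2) ^ 2 * k.factorial ^ 2) * (2 * t + 1) := hform.symm
      _ ≤ 2 * ((2 * k + 3) * (k + 2) ^ 2 * k.factorial ^ 2) * (2 * k + 5) := Nat.mul_le_mul_left _ (by omega)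
      _ = _ := by ring
  have h3 := Nat.le_of_mul_le_mul_right h2 (by positivity)
  nlinarith

/-- two rows, `s = 1`, `n` even -/
theorem rows1_even {m A B : ℕ} {ρ : List ℕ} (hm : 25 ≤ m) (hl : IsPart (A :: B :: ρ) (2 * m)) (hρ : IsPart ρ 1)
    (heq : hookProd (A :: B :: ρ) = 2 * ((2 * m - 1) * m ^ 2 * (m - 2).factorial ^ 2)) : False := by
  have hAB : B ≤ A := List.rel_of_pairwise_cons hl.sorted (by simp)
  have hform := rows_form hl
  have hρ0 := eq_one_of_isPart hρ
  have hs := hl.sum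
  have hB : 0 < B := hl.pos B (by simp)
  subst hρ0
  rw [heq, hookProd_one, mul_one] at hform
  rw [List.sum_cons, List.sum_cons, List.sum_cons, List.sum_nil] at hs
  obtain ⟨k, rfl⟩ : ∃ k, m = k + 2 := ⟨m - 2, by omega⟩
  obtain ⟨c, rfl⟩ : ∃ c, B = c + 1 := ⟨B - 1, by omega⟩
  obtain ⟨t, rfl⟩ : ∃ t, A = c + 2 * t := ⟨(A - c) / 2, by omega⟩
  have hct : c + 1 + t = k + 2 := by omega
  rw [G_colLen_one, G_colLen_one, show c + 2 * t + 1 - (c + 1) = 2 * t by omega, show 2 * (k + 2) - 1 = 2 * k + 3 by omega,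
    show k + 2 - 2 = k by omega] at hform
  have h1 := fact_quad (c + 1) t
  rw [hct, show c + 1 + 2 * t = (c + 2 * t) + 1 by ring, Nat.factorial_succ (c + 2 * t), Nat.factorial_succ c,
    Nat.factorial_succ (k + 1), Nat.factorial_succ k] at h1
  have hf : 0 < k.factorial ^ 2 := pow_pos (Nat.factorial_pos k) 2
  have h2 : ((k + 1) ^ 2 * (k + 2 + t ^ 2)) * ((k + 2) ^ 2 * k.factorial ^ 2) ≤
      ((k + 2) * (2 * (2 * k + 3) * (2 * t))) * ((k + 2) ^ 2 * k.factorial ^ 2) := by
    calc _ = ((k + 1 + 1) * ((k + 1) * k.factorial)) ^ 2 * (k + 2 + t ^ 2) := by ring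
      _ ≤ (k + 2) * ((c + 2 * t + 1) * (c + 2 * t).factorial * ((c + 1) * c.factorial)) := h1
      _ ≤ (k + 2) * ((c + 2 * t + 2) * (c + 2 * t).factorial * ((c + 2) * c.factorial)) := by gcongr <;> omega
      _ = (k + 2) * (2 * ((2 * k + 3) * (k + 2) ^ 2 * k.factorial ^ 2) * (2 * t)) := by rw [hform]
      _ = _ := by ring
  have h3 := Nat.le_of_mul_le_mul_right h2 (by positivity)
  have h4 : 10 * t ≤ k + 2 + t ^ 2 := by
    have h5 : (23 : ℤ) ≤ k := by exact_mod_cast (show 23 ≤ k by omega)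
    have : (10 * t : ℤ) ≤ k + 2 + t ^ 2 := by nlinarith [sq_nonneg ((t : ℤ) - 5)]
    exact_mod_cast this
  have h5 : (k + 1) ^ 2 * (10 * t) ≤ (k + 2) * (2 * (2 * k + 3) * (2 * t)) := (Nat.mul_le_mul_left _ h4).trans h3
  have ht : 0 < t := by omega
  have h6 : t * (10 * (k + 1) ^ 2) ≤ t * (4 * (k + 2) * (2 * k + 3)) := by
    calc _ = (k + 1) ^ 2 * (10 * t) := by ring
      _ ≤ _ := h5
      _ = _ := by ring
  have h7 := Nat.le_of_mul_le_mul_left h6 ht
  nlinarith

end Cfsg.Agent.H797.AD
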