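import Cfsg.Agent.H797.AD.CoreStr

/-!
# The hook products of the two near-hook self-conjugate partitions (helper797, S4766)
-/

set_option autoImplicit false

namespace Cfsg.Agent.H797.AD

open Cfsg.Agent.H704

theorem lamCol_rep (k j : ℕ) : colLen (List.replicate k 1) j = if j = 0 then k else 0 := by
  rw [colLen, List.countP_replicate]
  rcases Nat.eq_zero_or_pos j with rfl | hj
  · simp
  · rw [if_neg (by simp; omega), if_neg (by omega)]

theorem lamProd_range (h : ℕ) : ((List.range h).map fun j => h - j).prod = h.factorial := by
  induction h with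
  | zero => rfl
  | succ h ih =>
    rw [List.range_succ_eq_map, List.map_cons, List.prod_cons, List.map_map, Nat.factorial_succ, Nat.sub_zero, ← ih]
    congr 2
    apply List.map_congr_left
    intro j _
    show h + 1 - (j + 1) = h - j
    omega

theorem lamHook_rep (k : ℕ) : hookProd (List.replicate k 1) = k.factorial := by
  induction k with
  | zero => rfl
  | succ k ih =>
    rw [List.replicate_succ, hookProd, ih, rowHook, Nat.factorial_succ]
    congr 1
    simp [lamCol_rep]
    omega

theorem lam_odd {m : ℕ} (_hm : 2 ≤ m) : ∃ l, IsPart l (2 * m + 1) ∧ transpose l = l ∧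
    hookProd l = (2 * m + 1) * m.factorial ^ 2 := by
  have h0 : IsPart ([] : List ℕ) 0 := ⟨List.Pairwise.nil, by simp, rfl⟩
  refine ⟨lamb [] m, ?_, transpose_lamb h0 rfl (Nat.zero_le _), ?_⟩
  · have := isPart_lamb h0 (h := m) (Nat.zero_le _) (Nat.zero_le _)
    rwa [zero_add] at this
  · show rowHook (m + 1) (List.replicate m 1) * hookProd (List.replicate m 1) = _
    rw [lamHook_rep, rowHook, List.range_succ_eq_map, List.map_cons, List.prod_cons, List.map_map, sq, ← mul_assoc]
    congr 1
    congr 1
    · rw [lamCol_rep, if_pos rfl]; omega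
    · conv_rhs => rw [← lamProd_range m]
      congr 1
      apply List.map_congr_left
      intro j _
      show m + 1 - (j + 1) + colLen (List.replicate m 1) (j + 1) = m - j
      rw [lamCol_rep, if_neg (by omega)]
      omega

theorem lam_even {m : ℕ} (hm : 3 ≤ m) : ∃ l, IsPart l (2 * m) ∧ transpose l = l ∧
    hookProd l = (2 * m - 1) * m ^ 2 * (m - 2).factorial ^ 2 := by
  have h0 : IsPart ([1] : List ℕ) 1 := ⟨List.pairwise_singleton _ _, by simp, rfl⟩
  obtain ⟨k, rfl⟩ : ∃ k, m = k + 2 := ⟨m - 2, by omega⟩
  refine ⟨lamb [1] (k + 1), ?_, transpose_lamb h0 (by decide) (by simp), ?_⟩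
  · have := isPart_lamb h0 (h := k + 1) (by simp) (by simp)
    rwa [show 1 + (2 * (k + 1) + 1) = 2 * (k + 2) by ring] at this
  · show rowHook (k + 2) (2 :: List.replicate k 1) * (rowHook 2 (List.replicate k 1) * hookProd (List.replicate k 1)) = _
    have h1 : rowHook (k + 2) (2 :: List.replicate k 1) = (2 * (k + 2) - 1) * (k + 2) * k.factorial := by
      rw [rowHook, List.range_succ_eq_map, List.range_succ_eq_map, List.map_cons, List.prod_cons, List.map_cons,
        List.map_cons, List.prod_cons, List.map_map, List.map_map, ← mul_assoc]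
      congr 1
      · congr 1
        · rw [colLen_cons, lamCol_rep, if_pos rfl]
          simp
          omega
        · show k + 2 - 1 + colLen (2 :: List.replicate k 1) 1 = _
          rw [colLen_cons, lamCol_rep, if_neg (by omega)]
          simp
      · conv_rhs => rw [← lamProd_range k]
        congr 1
        apply List.map_congr_left
        intro j _
        show k + 2 - (j + 1 + 1) + colLen (2 :: List.replicate k 1) (j + 1 + 1) = k - j
        rw [colLen_cons, lamCol_rep, if_neg (by omega)]
        simp
    have h2 : rowHook 2 (List.replicate k 1) = k + 2 := by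
      rw [rowHook]
      simp [List.range_succ, lamCol_rep]
      omega
    rw [h1, h2, lamHook_rep, show k + 2 - 2 = k by omega]
    ring

end Cfsg.Agent.H797.AD
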