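import Cfsg.Agent.H797.AD.SmallChk

/-!
# The small degrees (helper797, S4766)

`small` : for `5 ≤ n ≤ 544` there is a self-conjugate partition of `n` such that half of its degree is not a degree
of the symmetric group of degree `n`. For each `n` the table has a prime `p` and a self-conjugate partition of `n - p`.
-/

set_option autoImplicit false
set_option maxRecDepth 100000

namespace Cfsg.Agent.H797.AD

open Cfsg.Agent.H704

/-- the table for `5 ≤ n ≤ 60` -/
def tab0 : List (ℕ × List ℕ) := [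
  (5, []), (5, [1]), (7, []), (7, [1]), (5, [2, 2]), (7, [2, 1]), (11, []), (11, [1]), (13, []), (13, [1]),
  (11, [2, 2]), (11, [3, 1, 1]), (17, []), (17, [1]), (19, []), (19, [1]), (17, [2, 2]), (17, [3, 1, 1]), (23, []),
  (23, [1]), (19, [3, 2, 1]), (19, [4, 1, 1, 1]), (23, [2, 2]), (23, [3, 1, 1]), (29, []), (29, [1]), (31, []),
  (31, [1]), (29, [2, 2]), (29, [3, 1, 1]), (29, [3, 2, 1]), (31, [3, 1, 1]), (37, []), (37, [1]),
  (29, [5, 2, 1, 1, 1]), (31, [3, 3, 3]), (41, []), (41, [1]), (43, []), (43, [1]), (37, [4, 2, 1, 1]),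
  (41, [3, 1, 1]), (47, []), (47, [1]), (43, [3, 2, 1]), (43, [4, 1, 1, 1]), (43, [4, 2, 1, 1]), (47, [3, 1, 1]),
  (53, []), (53, [1]), (47, [4, 2, 1, 1]), (47, [5, 1, 1, 1, 1]), (53, [2, 2]), (53, [3, 1, 1]), (59, []), (59, [1])]

theorem chk0 : chkAll 5 tab0 = true := by decide +kernel

/-- the table for `61 ≤ n ≤ 128` -/
def tab1 : List (ℕ × List ℕ) := [
  (61, []), (61, [1]), (53, [5, 2, 1, 1, 1]), (59, [3, 1, 1]), (59, [3, 2, 1]), (61, [3, 1, 1]), (67, []), (67, [1]),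
  (61, [4, 2, 1, 1]), (61, [5, 1, 1, 1, 1]), (71, []), (71, [1]), (73, []), (73, [1]), (67, [4, 2, 1, 1]),
  (71, [3, 1, 1]), (71, [3, 2, 1]), (73, [3, 1, 1]), (79, []), (79, [1]), (71, [5, 2, 1, 1, 1]), (73, [3, 3, 3]),
  (83, []), (83, [1]), (79, [3, 2, 1]), (79, [4, 1, 1, 1]), (79, [4, 2, 1, 1]), (83, [3, 1, 1]), (89, []), (89, [1]),
  (83, [4, 2, 1, 1]), (83, [3, 3, 3]), (83, [4, 3, 2, 1]), (89, [3, 1, 1]), (89, [3, 2, 1]), (89, [4, 1, 1, 1]),
  (97, []), (97, [1]), (89, [4, 3, 2, 1]), (97, [2, 1]), (101, []), (101, [1]), (103, []), (103, [1]),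
  (97, [4, 2, 1, 1]), (101, [3, 1, 1]), (107, []), (107, [1]), (109, []), (109, [1]), (103, [4, 2, 1, 1]),
  (107, [3, 1, 1]), (113, []), (113, [1]), (109, [3, 2, 1]), (109, [4, 1, 1, 1]), (107, [4, 3, 2, 1]),
  (113, [3, 1, 1]), (113, [3, 2, 1]), (113, [4, 1, 1, 1]), (113, [4, 2, 1, 1]), (113, [3, 3, 3]),
  (113, [4, 3, 2, 1]), (113, [6, 1, 1, 1, 1, 1]), (113, [5, 3, 2, 1, 1]), (113, [5, 3, 3, 1, 1]), (127, []),
  (127, [1])]

theorem chk1 : chkAll 61 tab1 = true := by decide +kernel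

/-- the table for `129 ≤ n ≤ 129` -/
def tab2 : List (ℕ × List ℕ) := [
  (113, [7, 3, 2, 1, 1, 1, 1])]

theorem chk2 : chkAll 129 tab2 = true := by decide +kernel

/-- the table for `130 ≤ n ≤ 200` -/
def tab3 : List (ℕ × List ℕ) := [
  (113, [6, 4, 3, 2, 1, 1]), (131, []), (131, [1]), (127, [3, 2, 1]), (127, [4, 1, 1, 1]), (127, [4, 2, 1, 1]),
  (131, [3, 1, 1]), (137, []), (137, [1]), (139, []), (139, [1]), (127, [6, 3, 2, 1, 1, 1]), (137, [3, 1, 1]),
  (137, [3, 2, 1]), (139, [3, 1, 1]), (139, [3, 2, 1]), (139, [4, 1, 1, 1]), (139, [4, 2, 1, 1]), (139, [3, 3, 3]),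
  (149, []), (149, [1]), (151, []), (151, [1]), (139, [6, 3, 2, 1, 1, 1]), (149, [3, 1, 1]), (149, [3, 2, 1]),
  (151, [3, 1, 1]), (157, []), (157, [1]), (151, [4, 2, 1, 1]), (151, [3, 3, 3]), (151, [4, 3, 2, 1]),
  (157, [3, 1, 1]), (163, []), (163, [1]), (157, [4, 2, 1, 1]), (157, [3, 3, 3]), (167, []), (167, [1]),
  (163, [3, 2, 1]), (163, [4, 1, 1, 1]), (163, [4, 2, 1, 1]), (167, [3, 1, 1]), (173, []), (173, [1]),
  (167, [4, 2, 1, 1]), (167, [3, 3, 3]), (167, [4, 3, 2, 1]), (173, [3, 1, 1]), (179, []), (179, [1]), (181, []),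
  (181, [1]), (173, [4, 3, 2, 1]), (179, [3, 1, 1]), (179, [3, 2, 1]), (181, [3, 1, 1]), (181, [3, 2, 1]),
  (181, [4, 1, 1, 1]), (181, [4, 2, 1, 1]), (181, [3, 3, 3]), (191, []), (191, [1]), (193, []), (193, [1]),
  (181, [5, 4, 2, 2, 1]), (191, [3, 1, 1]), (197, []), (197, [1]), (199, []), (199, [1])]

theorem chk3 : chkAll 130 tab3 = true := by decide +kernel

/-- the table for `201 ≤ n ≤ 270` -/
def tab4 : List (ℕ × List ℕ) := [
  (193, [4, 2, 1, 1]), (197, [3, 1, 1]), (197, [3, 2, 1]), (199, [3, 1, 1]), (199, [3, 2, 1]), (199, [4, 1, 1, 1]),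
  (199, [4, 2, 1, 1]), (199, [3, 3, 3]), (199, [4, 3, 2, 1]), (197, [5, 3, 3, 1, 1]), (211, []), (211, [1]),
  (199, [5, 4, 2, 2, 1]), (199, [4, 4, 4, 3]), (199, [4, 4, 4, 4]), (211, [3, 1, 1]), (211, [3, 2, 1]),
  (211, [4, 1, 1, 1]), (211, [4, 2, 1, 1]), (211, [3, 3, 3]), (211, [4, 3, 2, 1]), (211, [6, 1, 1, 1, 1, 1]),
  (223, []), (223, [1]), (211, [6, 3, 2, 1, 1, 1]), (211, [4, 4, 4, 3]), (227, []), (227, [1]), (229, []),
  (229, [1]), (223, [4, 2, 1, 1]), (227, [3, 1, 1]), (233, []), (233, [1]), (229, [3, 2, 1]), (229, [4, 1, 1, 1]),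
  (229, [4, 2, 1, 1]), (233, [3, 1, 1]), (239, []), (239, [1]), (241, []), (241, [1]), (229, [5, 4, 2, 2, 1]),
  (239, [3, 1, 1]), (239, [3, 2, 1]), (241, [3, 1, 1]), (241, [3, 2, 1]), (241, [4, 1, 1, 1]), (241, [4, 2, 1, 1]),
  (241, [3, 3, 3]), (251, []), (251, [1]), (241, [5, 3, 2, 1, 1]), (241, [5, 3, 3, 1, 1]), (241, [5, 4, 2, 2, 1]),
  (251, [3, 1, 1]), (257, []), (257, [1]), (251, [4, 2, 1, 1]), (251, [3, 3, 3]), (251, [4, 3, 2, 1]),
  (257, [3, 1, 1]), (263, []), (263, [1]), (257, [4, 2, 1, 1]), (257, [3, 3, 3]), (257, [4, 3, 2, 1]),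
  (263, [3, 1, 1]), (269, []), (269, [1])]

theorem chk4 : chkAll 201 tab4 = true := by decide +kernel

/-- the table for `271 ≤ n ≤ 340` -/
def tab5 : List (ℕ × List ℕ) := [
  (271, []), (271, [1]), (263, [4, 3, 2, 1]), (269, [3, 1, 1]), (269, [3, 2, 1]), (271, [3, 1, 1]), (277, []),
  (277, [1]), (271, [4, 2, 1, 1]), (271, [3, 3, 3]), (281, []), (281, [1]), (283, []), (283, [1]),
  (277, [4, 2, 1, 1]), (281, [3, 1, 1]), (281, [3, 2, 1]), (283, [3, 1, 1]), (283, [3, 2, 1]), (283, [4, 1, 1, 1]),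
  (283, [4, 2, 1, 1]), (283, [3, 3, 3]), (293, []), (293, [1]), (283, [6, 2, 1, 1, 1, 1]), (283, [5, 3, 3, 1, 1]),
  (283, [7, 2, 1, 1, 1, 1, 1]), (293, [3, 1, 1]), (293, [3, 2, 1]), (293, [4, 1, 1, 1]), (293, [4, 2, 1, 1]),
  (293, [3, 3, 3]), (293, [4, 3, 2, 1]), (293, [6, 1, 1, 1, 1, 1]), (293, [5, 3, 2, 1, 1]), (293, [5, 3, 3, 1, 1]),
  (307, []), (307, [1]), (293, [6, 4, 2, 2, 1, 1]), (293, [5, 5, 3, 2, 2]), (311, []), (311, [1]), (313, []),
  (313, [1]), (307, [4, 2, 1, 1]), (311, [3, 1, 1]), (317, []), (317, [1]), (313, [3, 2, 1]), (313, [4, 1, 1, 1]),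
  (313, [4, 2, 1, 1]), (317, [3, 1, 1]), (317, [3, 2, 1]), (317, [4, 1, 1, 1]), (317, [4, 2, 1, 1]),
  (317, [3, 3, 3]), (317, [5, 2, 1, 1, 1]), (313, [4, 4, 4, 3]), (317, [5, 3, 2, 1, 1]), (317, [5, 3, 3, 1, 1]),
  (331, []), (331, [1]), (317, [4, 4, 4, 4]), (317, [5, 4, 4, 3, 1]), (317, [5, 4, 4, 4, 1]), (331, [3, 1, 1]),
  (337, []), (337, [1]), (331, [4, 2, 1, 1]), (331, [3, 3, 3])]

theorem chk5 : chkAll 271 tab5 = true := by decide +kernel

/-- the table for `341 ≤ n ≤ 410` -/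
def tab6 : List (ℕ × List ℕ) := [
  (331, [4, 3, 2, 1]), (337, [3, 1, 1]), (337, [3, 2, 1]), (337, [4, 1, 1, 1]), (337, [4, 2, 1, 1]),
  (337, [3, 3, 3]), (347, []), (347, [1]), (349, []), (349, [1]), (337, [5, 4, 2, 2, 1]), (347, [3, 1, 1]),
  (353, []), (353, [1]), (349, [3, 2, 1]), (349, [4, 1, 1, 1]), (349, [4, 2, 1, 1]), (353, [3, 1, 1]), (359, []),
  (359, [1]), (353, [4, 2, 1, 1]), (353, [3, 3, 3]), (353, [4, 3, 2, 1]), (359, [3, 1, 1]), (359, [3, 2, 1]),
  (359, [4, 1, 1, 1]), (367, []), (367, [1]), (359, [4, 3, 2, 1]), (359, [6, 1, 1, 1, 1, 1]), (359, [5, 3, 2, 1, 1]),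
  (367, [3, 1, 1]), (373, []), (373, [1]), (367, [4, 2, 1, 1]), (367, [3, 3, 3]), (367, [5, 2, 1, 1, 1]),
  (373, [3, 1, 1]), (379, []), (379, [1]), (373, [4, 2, 1, 1]), (373, [3, 3, 3]), (383, []), (383, [1]),
  (379, [3, 2, 1]), (379, [4, 1, 1, 1]), (379, [4, 2, 1, 1]), (383, [3, 1, 1]), (389, []), (389, [1]),
  (383, [4, 2, 1, 1]), (383, [3, 3, 3]), (383, [5, 2, 1, 1, 1]), (389, [3, 1, 1]), (389, [3, 2, 1]),
  (389, [4, 1, 1, 1]), (397, []), (397, [1]), (389, [4, 3, 2, 1]), (389, [6, 1, 1, 1, 1, 1]), (401, []), (401, [1]),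
  (397, [3, 2, 1]), (397, [4, 1, 1, 1]), (397, [4, 2, 1, 1]), (401, [3, 1, 1]), (401, [3, 2, 1]),
  (401, [4, 1, 1, 1]), (409, []), (409, [1])]

theorem chk6 : chkAll 341 tab6 = true := by decide +kernel

/-- the table for `411 ≤ n ≤ 480` -/
def tab7 : List (ℕ × List ℕ) := [
  (401, [4, 3, 2, 1]), (401, [6, 1, 1, 1, 1, 1]), (401, [5, 3, 2, 1, 1]), (409, [3, 1, 1]), (409, [3, 2, 1]),
  (409, [4, 1, 1, 1]), (409, [4, 2, 1, 1]), (409, [3, 3, 3]), (419, []), (419, [1]), (421, []), (421, [1]),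
  (409, [5, 4, 2, 2, 1]), (419, [3, 1, 1]), (419, [3, 2, 1]), (421, [3, 1, 1]), (421, [3, 2, 1]),
  (421, [4, 1, 1, 1]), (421, [4, 2, 1, 1]), (421, [3, 3, 3]), (431, []), (431, [1]), (433, []), (433, [1]),
  (421, [6, 3, 2, 1, 1, 1]), (431, [3, 1, 1]), (431, [3, 2, 1]), (433, [3, 1, 1]), (439, []), (439, [1]),
  (433, [4, 2, 1, 1]), (433, [3, 3, 3]), (443, []), (443, [1]), (439, [3, 2, 1]), (439, [4, 1, 1, 1]),
  (439, [4, 2, 1, 1]), (443, [3, 1, 1]), (449, []), (449, [1]), (443, [4, 2, 1, 1]), (443, [3, 3, 3]),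
  (443, [4, 3, 2, 1]), (449, [3, 1, 1]), (449, [3, 2, 1]), (449, [4, 1, 1, 1]), (457, []), (457, [1]),
  (449, [4, 3, 2, 1]), (449, [6, 1, 1, 1, 1, 1]), (461, []), (461, [1]), (463, []), (463, [1]), (457, [4, 2, 1, 1]),
  (461, [3, 1, 1]), (467, []), (467, [1]), (463, [3, 2, 1]), (463, [4, 1, 1, 1]), (463, [4, 2, 1, 1]),
  (467, [3, 1, 1]), (467, [3, 2, 1]), (467, [4, 1, 1, 1]), (467, [4, 2, 1, 1]), (467, [3, 3, 3]),
  (467, [4, 3, 2, 1]), (467, [6, 1, 1, 1, 1, 1]), (479, []), (479, [1])]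

theorem chk7 : chkAll 411 tab7 = true := by decide +kernel

/-- the table for `481 ≤ n ≤ 543` -/
def tab8 : List (ℕ × List ℕ) := [
  (467, [5, 4, 2, 2, 1]), (467, [4, 4, 4, 3]), (467, [4, 4, 4, 4]), (479, [3, 1, 1]), (479, [3, 2, 1]),
  (479, [4, 1, 1, 1]), (487, []), (487, [1]), (479, [4, 3, 2, 1]), (479, [6, 1, 1, 1, 1, 1]), (491, []), (491, [1]),
  (487, [3, 2, 1]), (487, [4, 1, 1, 1]), (487, [4, 2, 1, 1]), (491, [3, 1, 1]), (491, [3, 2, 1]),
  (491, [4, 1, 1, 1]), (499, []), (499, [1]), (491, [4, 3, 2, 1]), (491, [6, 1, 1, 1, 1, 1]), (503, []), (503, [1]),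
  (499, [3, 2, 1]), (499, [4, 1, 1, 1]), (499, [4, 2, 1, 1]), (503, [3, 1, 1]), (509, []), (509, [1]),
  (503, [4, 2, 1, 1]), (503, [3, 3, 3]), (503, [4, 3, 2, 1]), (509, [3, 1, 1]), (509, [3, 2, 1]),
  (509, [4, 1, 1, 1]), (509, [4, 2, 1, 1]), (509, [3, 3, 3]), (509, [4, 3, 2, 1]), (509, [6, 1, 1, 1, 1, 1]),
  (521, []), (521, [1]), (523, []), (523, [1]), (509, [4, 4, 4, 4]), (521, [3, 1, 1]), (521, [3, 2, 1]),
  (523, [3, 1, 1]), (523, [3, 2, 1]), (523, [4, 1, 1, 1]), (523, [4, 2, 1, 1]), (523, [3, 3, 3]),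
  (523, [4, 3, 2, 1]), (523, [6, 1, 1, 1, 1, 1]), (523, [5, 3, 2, 1, 1]), (523, [5, 3, 3, 1, 1]),
  (523, [5, 4, 2, 2, 1]), (523, [4, 4, 4, 3]), (523, [8, 2, 1, 1, 1, 1, 1, 1]), (523, [5, 4, 4, 3, 1]), (541, []),
  (541, [1]), (523, [6, 4, 4, 4, 1, 1])]

theorem chk8 : chkAll 481 tab8 = true := by decide +kernel

/-- the table for `544 ≤ n ≤ 544` -/
def tab9 : List (ℕ × List ℕ) := [
  (541, [2, 1])]

/-- the test of one position -/
def pk (p H0 : ℕ) (κ : List ℕ) (H k : ℕ) : Bool :=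
  (bdl (κ ++ List.replicate k 0)).all fun y =>
      (!Nat.beq k 0 && !Nat.beq y 0) ||
      !Nat.beq (2 * H0 * (((bdl (κ ++ List.replicate k 0)).filter (fun z => !Nat.beq z y)).map (ds (y + p))).prod * y.factorial)
        (H * (((bdl (κ ++ List.replicate k 0)).filter (fun z => !Nat.beq z y)).map (ds y)).prod * (y + p).factorial)

theorem posTest_eq (n p H0 : ℕ) (κ : List ℕ) (H : ℕ) : posTest n p H0 κ H = (List.range (n + 1)).all (pk p H0 κ H) := rfl

/-- the product over the beads of the parts of `κ` -/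
def hdp (f : ℕ → ℕ) (k : ℕ) : List ℕ → ℕ
  | [] => 1
  | a :: l => f (a + l.length + k) * hdp f k l

/-- the product over the low beads -/
def lo (f : ℕ → ℕ) : ℕ → ℕ
  | 0 => 1
  | k + 1 => if k = 0 then 1 else f k * lo f k

theorem lo_succ (f : ℕ → ℕ) {k : ℕ} (hk : k ≠ 0) : lo f (k + 1) = f k * lo f k := by rw [lo, if_neg hk]

theorem prod_lo (f : ℕ → ℕ) : ∀ k, (((bdl (List.replicate k 0)).filter (fun z => !Nat.beq z 0)).map f).prod = lo f k := by
  intro k
  induction k with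
  | zero => rfl
  | succ k ih =>
    rw [List.replicate_succ, bdl, List.length_replicate, zero_add, lo, List.filter_cons]
    by_cases hk : k = 0
    · subst hk
      rfl
    · have h1 : (!Nat.beq k 0) = true := by
        rw [Bool.not_eq_true', ← Bool.not_eq_true, Nat.beq_eq]
        exact hk
      rw [if_pos h1, if_neg hk, List.map_cons, List.prod_cons, ih]

theorem prod_hd (f : ℕ → ℕ) (k : ℕ) : ∀ κ : List ℕ, (∀ a ∈ κ, 0 < a) →
    (((bdl (κ ++ List.replicate k 0)).filter (fun z => !Nat.beq z 0)).map f).prod = hdp f k κ * lo f k := by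
  intro κ
  induction κ with
  | nil =>
    intro _
    rw [List.nil_append, prod_lo, hdp, one_mul]
  | cons a l ih =>
    intro h
    have ha := h a (List.mem_cons_self ..)
    rw [List.cons_append, bdl, List.length_append, List.length_replicate, List.filter_cons]
    have h1 : (!Nat.beq (a + (l.length + k)) 0) = true := by
      rw [Bool.not_eq_true', ← Bool.not_eq_true, Nat.beq_eq]
      omega
    rw [if_pos h1, List.map_cons, List.prod_cons, ih fun b hb => h b (List.mem_cons_of_mem _ hb), hdp, mul_assoc, add_assoc]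

/-- the loop -/
def lp (p H0 : ℕ) (κ : List ℕ) (H F : ℕ) : ℕ → ℕ → ℕ → ℕ → Bool
  | 0, _, _, _ => true
  | m + 1, k, A, B => !Nat.beq (2 * H0 * (hdp (ds p) k κ * A)) (H * (hdp (ds 0) k κ * B) * F) &&
      lp p H0 κ H F m (k + 1) (ds p k * A) (ds 0 k * B)

theorem lp_spec {p H0 : ℕ} {κ : List ℕ} {H F : ℕ} : ∀ (m k : ℕ), k ≠ 0 →
    lp p H0 κ H F m k (lo (ds p) k) (lo (ds 0) k) = true → ∀ j, k ≤ j → j < k + m →
      (!Nat.beq (2 * H0 * (hdp (ds p) j κ * lo (ds p) j)) (H * (hdp (ds 0) j κ * lo (ds 0) j) * F)) = true := by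
  intro m
  induction m with
  | zero => intro k _ _ j h1 h2; omega
  | succ m ih =>
    intro k hk h j h1 h2
    rw [lp, Bool.and_eq_true] at h
    rcases Nat.eq_or_lt_of_le h1 with rfl | h3
    · exact h.1
    · rw [← lo_succ _ hk, ← lo_succ _ hk] at h
      exact ih (k + 1) (by omega) h.2 j h3 (by omega)

theorem posTest_of_lp {n p H0 : ℕ} {κ : List ℕ} {H : ℕ} (hκ : ∀ a ∈ κ, 0 < a) (h0 : pk p H0 κ H 0 = true)
    (h : lp p H0 κ H p.factorial n 1 1 1 = true) : posTest n p H0 κ H = true := by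
  rw [posTest_eq, List.all_eq_true]
  intro k hk
  rw [List.mem_range] at hk
  by_cases hk0 : k = 0
  · rw [hk0]
    exact h0
  · have h1 := lp_spec n 1 one_ne_zero h k (by omega) (by omega)
    rw [pk, List.all_eq_true]
    intro y _
    by_cases hy : y = 0
    · subst hy
      rw [Bool.or_eq_true]
      right
      rw [prod_hd _ _ _ hκ, prod_hd _ _ _ hκ, zero_add, Nat.factorial_zero, mul_one]
      exact h1
    · rw [Bool.or_eq_true, Bool.and_eq_true]
      left
      rw [Bool.not_eq_true', Bool.not_eq_true', ← Bool.not_eq_true, ← Bool.not_eq_true, Nat.beq_eq, Nat.beq_eq]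
      exact ⟨hk0, hy⟩

theorem go_mono {f g : List ℕ → ℕ → Bool} (h : ∀ l H, f l H = true → g l H = true) :
    ∀ (k r b : ℕ) (l : List ℕ) (H : ℕ), go f k r b l H = true → go g k r b l H = true := by
  intro k
  induction k with
  | zero => intro r b l H h1; simp [go] at h1
  | succ k ih =>
    intro r b l H h1
    rw [go] at h1 ⊢
    split_ifs at h1 ⊢ with h2 h3
    · exact h _ _ h1
    · rfl
    · rw [List.all_eq_true] at h1 ⊢
      exact fun i hi => ih _ _ _ _ (h1 i hi)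

/-- the hook product of the partition `(271, 3, 2, 1^268)` -/
def hp0 : ℕ := 73650534232615564649363340036938880962441514373887683237269007256285438069165029915980572689047896730717279014553138045909102851893099663922884730062996198498942351816552425325845667656203664159432807461809604732716889048226555744475333886014952464524665647794845766803107415370481572149714597317455791598867726709206687725695829063122081191326772117638150720876648479708989373379342141814822288625468391721831349212418658191298917869124801216994111385235168193830270685346960351320275844781153066192073990962008785604910957839832641059082945277913872612016429644060272658719113675165216588936122320848062133357865171365467008916325866761658989719361648538983576787467796303628273123793463416512658496259751570335292662298144897268863129494290240343296396913966861769005026521627081039516297215992923516410124524709266544834313676854922110659417062780823331622953480186722520775865576069383302773481764488439033316041720638690900204537899930929843929088000000000000000000000000000000000000000000000000000000000000000000000000000000000000000000000000000000000000000000000000000000000000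

theorem hp0_eq : hookProd (lamb [2, 1] (541 / 2)) = hp0 := by decide +kernel

theorem pos_a : posTest 544 541 (hookProd (lamb [2, 1] (541 / 2))) [3] 6 = true := by
  rw [hp0_eq]
  exact posTest_of_lp (by decide) (by decide +kernel) (by decide +kernel)

theorem pos_b : posTest 544 541 (hookProd (lamb [2, 1] (541 / 2))) [1, 1, 1] 6 = true := by
  rw [hp0_eq]
  exact posTest_of_lp (by decide) (by decide +kernel) (by decide +kernel)

theorem chk9 : chkAll 544 tab9 = true := by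
  rw [tab9, chkAll, chkAll, Bool.and_true, chkN, Bool.and_eq_true]
  refine ⟨by decide +kernel, ?_⟩
  refine go_mono (f := fun κ H => resTest 541 (Nat.div (544 - 541).factorial (hookProd [2, 1]))
    (Nat.div (544 - 541).factorial H) || (decide (κ = [3] ∧ H = 6) || decide (κ = [1, 1, 1] ∧ H = 6))) ?_ _ _ _ _ _
    (by decide +kernel)
  intro κ H h
  rw [Bool.or_eq_true, Bool.or_eq_true, decide_eq_true_eq, decide_eq_true_eq] at h
  rw [Bool.or_eq_true]
  rcases h with h | ⟨rfl, rfl⟩ | ⟨rfl, rfl⟩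
  · exact Or.inl h
  · exact Or.inr pos_a
  · exact Or.inr pos_b

/-- **The small degrees.** -/
theorem small (n : ℕ) (h1 : 5 ≤ n) (h2 : n ≤ 544) : NotHalf n := by
  rcases Nat.lt_or_ge n 61 with h | h
  · exact notHalf_of_chkAll tab0 5 chk0 n (by omega) (by rw [show tab0.length = 56 from rfl]; omega)
  rcases Nat.lt_or_ge n 129 with h | h
  · exact notHalf_of_chkAll tab1 61 chk1 n (by omega) (by rw [show tab1.length = 68 from rfl]; omega)
  rcases Nat.lt_or_ge n 130 with h | h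
  · exact notHalf_of_chkAll tab2 129 chk2 n (by omega) (by rw [show tab2.length = 1 from rfl]; omega)
  rcases Nat.lt_or_ge n 201 with h | h
  · exact notHalf_of_chkAll tab3 130 chk3 n (by omega) (by rw [show tab3.length = 71 from rfl]; omega)
  rcases Nat.lt_or_ge n 271 with h | h
  · exact notHalf_of_chkAll tab4 201 chk4 n (by omega) (by rw [show tab4.length = 70 from rfl]; omega)
  rcases Nat.lt_or_ge n 341 with h | h
  · exact notHalf_of_chkAll tab5 271 chk5 n (by omega) (by rw [show tab5.length = 70 from rfl]; omega)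
  rcases Nat.lt_or_ge n 411 with h | h
  · exact notHalf_of_chkAll tab6 341 chk6 n (by omega) (by rw [show tab6.length = 70 from rfl]; omega)
  rcases Nat.lt_or_ge n 481 with h | h
  · exact notHalf_of_chkAll tab7 411 chk7 n (by omega) (by rw [show tab7.length = 70 from rfl]; omega)
  rcases Nat.lt_or_ge n 544 with h | h
  · exact notHalf_of_chkAll tab8 481 chk8 n (by omega) (by rw [show tab8.length = 63 from rfl]; omega)
  exact notHalf_of_chkAll tab9 544 chk9 n (by omega) (by rw [show tab9.length = 1 from rfl]; omega)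

end Cfsg.Agent.H797.AD
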