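import Cfsg.Agent.H797.AD.ModP
import Cfsg.Agent.H797.AD.Defs

/-!
# Partitions of `p + c` with a `p`-hook, the balanced `p`-hook around a self-conjugate partition (helper797, S4766)
-/

set_option autoImplicit false

namespace Cfsg.Agent.H797.AD

open Finset Cfsg.Agent.H704 Cfsg.Agent.H614

theorem eq_append_zeros : ∀ {l : List ℕ}, Dec l →
    l = l.filter (fun a => decide (0 < a)) ++ List.replicate (l.length - (l.filter (fun a => decide (0 < a))).length) 0 := by
  intro l
  induction l with
  | nil => intro _; rfl
  | cons a l ih =>
    intro h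
    have h1 := ih h.of_cons
    rw [List.filter_cons]
    split_ifs with ha
    · rw [List.cons_append, List.length_cons, List.length_cons, Nat.add_sub_add_right, ← h1]
    · have ha0 : a = 0 := by simpa using ha
      subst ha0
      have h2 : ∀ b ∈ l, b = 0 := fun b hb => Nat.le_zero.1 (List.rel_of_pairwise_cons h hb)
      have h3 : l.filter (fun a => decide (0 < a)) = [] := by
        rw [List.filter_eq_nil_iff]
        intro b hb
        rw [h2 b hb]
        simp
      rw [h3, List.nil_append, List.length_nil, Nat.sub_zero, List.length_cons, List.replicate_succ]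
      congr 1
      exact List.eq_replicate_of_mem h2

/-- **The structure of a partition of `c + p` with a `p`-hook.** -/
theorem core_str {p c d : ℕ} (pp : p.Prime) (hc : c < p) {l : List ℕ} (hl : IsPart l (c + p))
    (he : d * hookProd l = (c + p).factorial) (hpd : ¬ p ∣ d) :
    ∃ κ : List ℕ, IsPart κ c ∧ (∀ e, e * hookProd κ = c.factorial → Pm p d e) ∧ ∃ k y : ℕ, k ≤ c + p ∧ (k = 0 ∨ y = 0) ∧
      y ∈ bd (κ ++ List.replicate k 0) ∧ y + p ∉ (bd (κ ++ List.replicate k 0)).erase y ∧
      bd l = insert (y + p) ((bd (κ ++ List.replicate k 0)).erase y) ∧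
      hp (bd (κ ++ List.replicate k 0)) = hookProd κ := by
  have hlen : l.length ≤ l.sum := by
    have h11 : ∀ c ∈ l, 1 ≤ c := fun c hc => hl.pos c hc
    have := List.card_nsmul_le_sum _ 1 h11
    simpa using this
  have hD : Dec l := hl.sorted
  have h0 : hookProd l = hp (bd l) := hookProd_eq_hp hD
  rw [h0] at he
  -- the beads are positive and at most `n`
  have hpos : ∀ x ∈ bd l, 0 < x := by
    have : ∀ m : List ℕ, (∀ a ∈ m, 0 < a) → ∀ x ∈ bd m, 0 < x := by
      intro m
      induction m with
      | nil => intro _ x hx; simp [bd] at hx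
      | cons a m ih =>
        intro h x hx
        rw [bd, mem_insert] at hx
        rcases hx with rfl | hx
        · have := h a (by simp); omega
        · exact ih (fun b hb => h b (List.mem_cons_of_mem _ hb)) x hx
    exact this l hl.pos
  have hle : ∀ x ∈ bd l, x ≤ c + p := by
    intro x hx
    have hs := hl.sum
    cases l with
    | nil => simp [bd] at hx
    | cons a l =>
      rw [bd, mem_insert] at hx
      have h1 : ∀ c ∈ l, 1 ≤ c := fun c hc => hl.pos c (List.mem_cons_of_mem _ hc)
      have h2 : l.length ≤ l.sum := by
        have := List.card_nsmul_le_sum _ 1 h1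
        simpa using this
      rw [List.sum_cons] at hs
      rcases hx with rfl | hx
      · omega
      · have := lt_of_mem_bd l a (fun _ hb => List.rel_of_pairwise_cons hD hb) x hx
        omega
  have hdv : p ∣ hp (bd l) := by
    have h1 : p ∣ d * hp (bd l) := by rw [he]; exact (pp.dvd_factorial).2 (by omega)
    exact (pp.dvd_mul.1 h1).resolve_left hpd
  rw [hp, Prime.dvd_finsetProd_iff pp.prime] at hdv
  obtain ⟨x, hx, hdv⟩ := hdv
  rw [Prime.dvd_finsetProd_iff pp.prime] at hdv
  obtain ⟨y, hy, hdv⟩ := hdv
  rw [mem_filter, mem_range] at hy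
  have hxle := hle x hx
  have hxy : x = y + p := by
    obtain ⟨k, hk⟩ := hdv
    have hk0 : k ≠ 0 := by rintro rfl; omega
    have hk1 : k = 1 := by
      by_contra hne
      have : 2 ≤ k := by omega
      have : p * 2 ≤ p * k := Nat.mul_le_mul_left p this
      omega
    rw [hk1, mul_one] at hk
    omega
  subst hxy
  have hY : insert (y + p) ((bd l).erase (y + p)) = bd l := insert_erase hx
  have hyY : y ∉ (bd l).erase (y + p) := fun h => hy.2 (mem_of_mem_erase h)
  have hz : ∀ z ∈ (bd l).erase (y + p), ¬ p ∣ ds y z := by
    intro z hz ⟨k, hk⟩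
    have hz1 := hle z (mem_of_mem_erase hz)
    have hz2 := ne_of_mem_erase hz
    have hz3 := hpos z (mem_of_mem_erase hz)
    have hz4 : z ≠ y := fun h => hy.2 (h ▸ mem_of_mem_erase hz)
    unfold ds at hk
    have hk0 : k ≠ 0 := by rintro rfl; omega
    have hk1 : k = 1 := by
      by_contra hne
      have : 2 ≤ k := by omega
      have : p * 2 ≤ p * k := Nat.mul_le_mul_left p this
      omega
    rw [hk1, mul_one] at hk
    omega
  have hsum := sum_bd hD
  have hs1 : ∑ x ∈ bd l, x = (y + p) + ∑ x ∈ (bd l).erase (y + p), x := by
    conv_lhs => rw [← hY]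
    rw [sum_insert (notMem_erase _ _)]
  have hs2 : l.length = ((bd l).erase (y + p)).card + 1 := by
    rw [← card_bd hD]
    conv_lhs => rw [← hY]
    rw [card_insert_of_notMem (notMem_erase _ _)]
  rw [hs1, hl.sum, hs2] at hsum
  obtain ⟨l2, h1, h2, h3⟩ := exists_list (insert y ((bd l).erase (y + p)))
  rw [card_insert_of_notMem hyY, ← hs2] at h2
  have h4 := eq_append_zeros h1
  have h5 := List.length_filter_le (fun a : ℕ => decide (0 < a)) l2
  have h9 : hookProd (l2.filter (fun a => decide (0 < a))) = hp (bd l2) := by
    rw [hookProd_filter h1, hookProd_eq_hp h1]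
  have h10 : (l2.filter (fun a => decide (0 < a))).sum = c := by
    rw [sum_filter_pos]
    have h6 := sum_bd h1
    rw [h3, sum_insert hyY, h2, hs2] at h6
    omega
  refine ⟨l2.filter (fun a => decide (0 < a)), ⟨h1.filter _, ?_, h10⟩, ?_, l2.length - (l2.filter (fun a => decide (0 < a))).length,
    y, ?_, ?_, ?_, ?_, ?_, ?_⟩
  · intro a ha
    simpa using (List.mem_filter.1 ha).2
  · intro e he2
    refine deg_pm (Y := (bd l).erase (y + p)) pp (by omega) (notMem_erase _ _) hyY hz hc ?_ (by rw [← h3, ← h9, he2])
    rw [hY, he]
  · have := hl.sum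
    omega
  · by_contra hne
    rw [not_or] at hne
    have h6 : 0 ∈ bd l2 := by
      rw [h4]
      have : ∀ (m : List ℕ) (k : ℕ), k ≠ 0 → 0 ∈ bd (m ++ List.replicate k 0) := by
        intro m
        induction m with
        | nil =>
          intro k hk
          rw [List.nil_append]
          induction k with
          | zero => exact absurd rfl hk
          | succ k ih =>
            rw [List.replicate_succ, bd]
            rcases Nat.eq_zero_or_pos k with rfl | hk0
            · simp [bd]
            · exact mem_insert_of_mem (ih (by omega))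
        | cons a m ih =>
          intro k hk
          rw [List.cons_append, bd]
          exact mem_insert_of_mem (ih k hk)
      exact this _ _ hne.1
    rw [h3, mem_insert] at h6
    rcases h6 with h6 | h6
    · exact hne.2 h6.symm
    · exact (hpos 0 (mem_of_mem_erase h6)).false
  · rw [← h4, h3]
    exact mem_insert_self _ _
  · rw [← h4, h3, erase_insert hyY]
    exact notMem_erase _ _
  · rw [← h4, h3, erase_insert hyY, hY]
  · rw [← h4, ← h9]

/-! ### The balanced `p`-hook around a self-conjugate partition -/

/-- the balanced hook of length `2 h + 1` around `ν` -/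
def lamb (ν : List ℕ) (h : ℕ) : List ℕ := (h + 1) :: (ν.map (fun a => a + 1) ++ List.replicate (h - ν.length) 1)

theorem isPart_lamb {ν : List ℕ} {c h : ℕ} (hν : IsPart ν c) (h1 : ν.headD 0 ≤ h) (h2 : ν.length ≤ h) :
    IsPart (lamb ν h) (c + (2 * h + 1)) := by
  have h3 : ∀ a ∈ ν, a ≤ h := by
    intro a ha
    cases ν with
    | nil => simp at ha
    | cons b ν =>
      rw [List.headD_cons] at h1
      rcases List.mem_cons.1 ha with rfl | ha
      · exact h1
      · exact (List.rel_of_pairwise_cons hν.sorted ha).trans h1
  refine ⟨?_, ?_, ?_⟩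
  · refine List.Pairwise.cons ?_ (List.pairwise_append.2 ⟨?_, ?_, ?_⟩)
    · intro a ha
      rw [List.mem_append, List.mem_map, List.mem_replicate] at ha
      show a ≤ h + 1
      rcases ha with ⟨b, hb, rfl⟩ | ⟨_, rfl⟩
      · have := h3 b hb; omega
      · omega
    · rw [List.pairwise_map]
      exact hν.sorted.imp (fun {a b} hab => Nat.add_le_add_right hab 1)
    · exact List.pairwise_replicate.2 (Or.inr le_rfl)
    · intro a ha b hb
      rw [List.mem_map] at ha
      obtain ⟨a', _, rfl⟩ := ha
      rw [(List.mem_replicate.1 hb).2]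
      show 1 ≤ a' + 1
      omega
  · intro a ha
    rw [lamb, List.mem_cons, List.mem_append, List.mem_map, List.mem_replicate] at ha
    rcases ha with rfl | ⟨b, hb, rfl⟩ | ⟨_, rfl⟩ <;> omega
  · rw [lamb, List.sum_cons, List.sum_append, List.sum_replicate, List.sum_map_add, List.map_id', hν.sum,
      List.map_const', List.sum_replicate, smul_eq_mul, smul_eq_mul]
    omega

theorem colLen_append (a b : List ℕ) (j : ℕ) : colLen (a ++ b) j = colLen a j + colLen b j := by
  rw [colLen, List.countP_append]; rfl

theorem colLen_map_succ (ν : List ℕ) (j : ℕ) : colLen (ν.map (fun a => a + 1)) (j + 1) = colLen ν j := by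
  rw [colLen, List.countP_map, colLen]
  apply List.countP_congr
  intro a _
  simp

theorem transpose_lamb {ν : List ℕ} {c h : ℕ} (hν : IsPart ν c) (ht : transpose ν = ν) (h2 : ν.length ≤ h) :
    transpose (lamb ν h) = lamb ν h := by
  have hlen : ν.headD 0 = ν.length := by rw [← length_transpose, ht]
  have h3 : ∀ j, colLen ν (ν.length + j) = 0 := by
    intro j
    apply colLen_eq_zero
    intro a ha
    cases ν with
    | nil => simp at ha
    | cons b ν =>
      rw [← hlen, List.headD_cons]
      rcases List.mem_cons.1 ha with rfl | ha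
      · omega
      · have := List.rel_of_pairwise_cons hν.sorted ha
        have : a ≤ b := this
        omega
  have h4 : ∀ j, colLen (lamb ν h) (j + 1) = colLen ν j + if j < h then 1 else 0 := by
    intro j
    rw [lamb, colLen_cons, colLen_append, colLen_map_succ]
    have h5 : colLen (List.replicate (h - ν.length) 1) (j + 1) = 0 := by
      apply colLen_eq_zero
      intro a ha
      rw [(List.mem_replicate.1 ha).2]
      omega
    rw [h5]
    split_ifs <;> omega
  have h5 : colLen (lamb ν h) 0 = h + 1 := by
    rw [lamb, colLen_cons, colLen_append]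
    have h6 : colLen (ν.map (fun a => a + 1)) 0 = ν.length := by
      rw [colLen, List.countP_map]
      have : (fun a : ℕ => decide (0 < a)) ∘ (fun a => a + 1) = fun _ => true := by
        funext a; simp
      rw [this, List.countP_true]
    have h7 : colLen (List.replicate (h - ν.length) 1) 0 = h - ν.length := by
      rw [colLen, List.countP_replicate]
      simp
    rw [h6, h7, if_pos (by omega)]
    omega
  have h8 : (lamb ν h).headD 0 = h + 1 := rfl
  have h9 : transpose (lamb ν h) = (h + 1) :: (List.range h).map (fun j => colLen (lamb ν h) (j + 1)) := by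
    rw [transpose, h8, List.range_succ_eq_map, List.map_cons, List.map_map, h5]
    rfl
  rw [h9, lamb]
  congr 1
  conv_lhs => rw [show h = ν.length + (h - ν.length) by omega]
  rw [List.range_add, List.map_append, List.map_map]
  congr 1
  · conv_rhs => rw [← ht]
    rw [transpose, hlen, List.map_map]
    apply List.map_congr_left
    intro j hj
    rw [List.mem_range] at hj
    show colLen (lamb ν (ν.length + (h - ν.length))) (j + 1) = colLen ν j + 1
    rw [show ν.length + (h - ν.length) = h by omega, h4, if_pos (by omega)]
  · rw [List.eq_replicate_iff]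
    refine ⟨by simp, ?_⟩
    intro a ha
    rw [List.mem_map] at ha
    obtain ⟨j, hj, rfl⟩ := ha
    rw [List.mem_range] at hj
    show colLen (lamb ν (ν.length + (h - ν.length))) (ν.length + j + 1) = 1
    rw [show ν.length + (h - ν.length) = h by omega, h4, if_pos (by omega), h3]

theorem bd_map_succ (m : List ℕ) : bd (m.map (fun a => a + 1)) = (bd m).image (fun x => x + 1) := by
  induction m with
  | nil => rfl
  | cons a m ih =>
    rw [List.map_cons, bd, bd, image_insert, ih, List.length_map]
    congr 1
    omega

theorem bd_append_zero (m : List ℕ) : bd (m ++ [0]) = insert 0 ((bd m).image (fun x => x + 1)) := by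
  induction m with
  | nil => rfl
  | cons a m ih =>
    rw [List.cons_append, bd, bd, ih, List.length_append, List.length_singleton, image_insert, Finset.insert_comm]
    congr 1

/-- the degree of `lamb ν h` modulo `p` -/
theorem deg_lamb {ν : List ℕ} {c h p : ℕ} (pp : p.Prime) (hph : p = 2 * h + 1) (hc : c < p) (hν : IsPart ν c)
    (h1 : ν.headD 0 ≤ h) (h2 : ν.length ≤ h) {d e : ℕ} (hd : d * hookProd (lamb ν h) = (c + p).factorial)
    (he : e * hookProd ν = c.factorial) : Pm p d e := by
  have hD : Dec (lamb ν h) := (isPart_lamb hν h1 h2).sorted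
  have h3 : ∀ a ∈ ν ++ List.replicate (h - ν.length) 0, a ≤ h := by
    intro a ha
    rw [List.mem_append, List.mem_replicate] at ha
    rcases ha with ha | ⟨_, rfl⟩
    · cases ν with
      | nil => simp at ha
      | cons b ν =>
        rw [List.headD_cons] at h1
        rcases List.mem_cons.1 ha with rfl | ha
        · exact h1
        · exact (List.rel_of_pairwise_cons hν.sorted ha).trans h1
    · exact Nat.zero_le _
  have hlen : (ν ++ List.replicate (h - ν.length) 0).length = h := by
    rw [List.length_append, List.length_replicate]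
    omega
  have h4 : bd (lamb ν h) = insert (0 + p) ((bd (ν ++ List.replicate (h - ν.length) 0)).image (fun x => x + 1)) := by
    rw [lamb, bd, ← bd_map_succ, List.map_append, List.map_replicate]
    congr 1
    rw [List.length_append, List.length_map, List.length_replicate]
    omega
  have hY : ∀ z ∈ (bd (ν ++ List.replicate (h - ν.length) 0)).image (fun x => x + 1), 0 < z ∧ z < p := by
    intro z hz
    rw [mem_image] at hz
    obtain ⟨x, hx, rfl⟩ := hz
    have := lt_of_mem_bd _ h h3 x hx
    rw [hlen] at this
    omega
  have hD2 : Dec (ν ++ List.replicate (h - ν.length) 0) := by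
    refine List.pairwise_append.2 ⟨hν.sorted, List.pairwise_replicate.2 (Or.inr le_rfl), ?_⟩
    intro a _ b hb
    rw [(List.mem_replicate.1 hb).2]
    exact Nat.zero_le _
  have hD3 : Dec ((ν ++ List.replicate (h - ν.length) 0) ++ [0]) := by
    refine List.pairwise_append.2 ⟨hD2, List.pairwise_singleton _ _, ?_⟩
    intro a _ b hb
    rw [List.mem_singleton.1 hb]
    exact Nat.zero_le _
  have h5 : hp (insert 0 ((bd (ν ++ List.replicate (h - ν.length) 0)).image (fun x => x + 1))) = hookProd ν := by
    rw [← bd_append_zero, ← hookProd_eq_hp hD3, ← hookProd_filter hD3, List.filter_append, List.filter_append]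
    have h1 : ν.filter (fun a => decide (0 < a)) = ν := by
      rw [List.filter_eq_self]
      intro a ha
      simpa using hν.pos a ha
    have h2 : (List.replicate (h - ν.length) 0).filter (fun a => decide (0 < a)) = [] := by
      rw [List.filter_eq_nil_iff]
      intro a ha
      rw [(List.mem_replicate.1 ha).2]
      simp
    rw [h1, h2]
    simp
  refine deg_pm (y := 0) pp pp.pos ?_ ?_ ?_ hc ?_ ?_ (Y := (bd (ν ++ List.replicate (h - ν.length) 0)).image (fun x => x + 1))
  · intro h
    have := hY _ h
    omega
  · intro h
    have := hY _ h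
    omega
  · intro z hz hdv
    have h6 := hY z hz
    unfold ds at hdv
    have := Nat.le_of_dvd (by omega) hdv
    omega
  · rw [← h4, ← hookProd_eq_hp hD, hd]
  · rw [h5, he]

end Cfsg.Agent.H797.AD
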