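import Cfsg.Agent.H797.AD.Beads
import Cfsg.Agent.H704.Branch

/-!
# The hook product modulo a prime (helper797, S4766)

`core_mod` : `n = p + c`, `c < p`, `p ∤ d`, `d` a degree of `S_n`: then `d ≡ ± e` modulo `p` for a degree `e` of `S_c`.
-/

set_option autoImplicit false

namespace Cfsg.Agent.H797.AD

open Finset Cfsg.Agent.H704 Cfsg.Agent.H614

/-- the distance -/
def ds (a b : ℕ) : ℕ := (a - b) + (b - a)

theorem V_insert {X : Finset ℕ} {a : ℕ} (ha : a ∉ X) : V (insert a X) = (∏ y ∈ X, ds a y) * V X := by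
  have h1 : V (insert a X) = (∏ y ∈ X.filter (fun y => y < a), (a - y)) *
      ∏ x ∈ X, (∏ y ∈ (range x).filter (fun y => y ∈ X), (x - y)) * (if a < x then x - a else 1) := by
    rw [V, prod_insert ha]
    congr 1
    · refine prod_congr ?_ fun _ _ => rfl
      ext y
      rw [mem_filter, mem_range, mem_insert, mem_filter]
      constructor
      · rintro ⟨h1, h2 | h2⟩
        · omega
        · exact ⟨h2, h1⟩
      · rintro ⟨h1, h2⟩
        exact ⟨h2, Or.inr h1⟩
    · refine prod_congr rfl fun x hx => ?_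
      split_ifs with hax
      · have h2 : (range x).filter (fun y => y ∈ insert a X) = insert a ((range x).filter (fun y => y ∈ X)) := by
          ext y
          rw [mem_filter, mem_insert, mem_insert, mem_filter, mem_range]
          constructor
          · rintro ⟨h1, h2 | h2⟩
            · exact Or.inl h2
            · exact Or.inr ⟨h1, h2⟩
          · rintro (rfl | ⟨h1, h2⟩)
            · exact ⟨hax, Or.inl rfl⟩
            · exact ⟨h1, Or.inr h2⟩
        rw [h2, prod_insert (by rw [mem_filter]; exact fun h => ha h.2), mul_comm]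
      · rw [mul_one]
        refine prod_congr ?_ fun _ _ => rfl
        ext y
        rw [mem_filter, mem_filter, mem_range, mem_insert]
        constructor
        · rintro ⟨h1, h2 | h2⟩
          · omega
          · exact ⟨h1, h2⟩
        · rintro ⟨h1, h2⟩
          exact ⟨h1, Or.inr h2⟩
  rw [h1, prod_mul_distrib, ← V, mul_comm (V X), ← mul_assoc]
  congr 1
  rw [← prod_filter_mul_prod_filter_not X (fun y => y < a) (fun y => ds a y)]
  congr 1
  · refine prod_congr rfl fun y hy => ?_
    have := (mem_filter.1 hy).2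
    unfold ds
    omega
  · rw [prod_ite, prod_const_one, mul_one]
    have h3 : X.filter (fun x => a < x) = X.filter (fun x => ¬ x < a) := by
      ext y
      rw [mem_filter, mem_filter]
      constructor
      · rintro ⟨h1, h2⟩
        exact ⟨h1, by omega⟩
      · rintro ⟨h1, h2⟩
        refine ⟨h1, ?_⟩
        have : y ≠ a := fun h => ha (h ▸ h1)
        omega
    rw [h3]
    refine prod_congr rfl fun y hy => ?_
    have := (mem_filter.1 hy).2
    unfold ds
    omega

/-- moving one bead -/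
theorem hp_move {Y : Finset ℕ} {x y : ℕ} (hx : x ∉ Y) (hy : y ∉ Y) :
    hp (insert x Y) * (∏ z ∈ Y, ds x z) * y.factorial = hp (insert y Y) * (∏ z ∈ Y, ds y z) * x.factorial := by
  have h1 := hp_mul_V (insert x Y)
  have h2 := hp_mul_V (insert y Y)
  rw [V_insert hx, prod_insert hx] at h1
  rw [V_insert hy, prod_insert hy] at h2
  have hV := V_pos Y
  apply Nat.eq_of_mul_eq_mul_right hV
  calc hp (insert x Y) * (∏ z ∈ Y, ds x z) * y.factorial * V Y
      = hp (insert x Y) * ((∏ z ∈ Y, ds x z) * V Y) * y.factorial := by ring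
    _ = x.factorial * (∏ z ∈ Y, z.factorial) * y.factorial := by rw [h1]
    _ = (y.factorial * (∏ z ∈ Y, z.factorial)) * x.factorial := by ring
    _ = (hp (insert y Y) * ((∏ z ∈ Y, ds y z) * V Y)) * x.factorial := by rw [h2]
    _ = _ := by ring

/-- congruence up to sign -/
def Pm (p : ℕ) (a b : ℕ) : Prop := (a : ZMod p) = b ∨ (a : ZMod p) = -b

theorem Pm.mul {p a b c d : ℕ} (h1 : Pm p a b) (h2 : Pm p c d) : Pm p (a * c) (b * d) := by
  unfold Pm at *
  rw [Nat.cast_mul, Nat.cast_mul]
  rcases h1 with h1 | h1 <;> rcases h2 with h2 | h2 <;> rw [h1, h2] <;> simp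

theorem Pm.symm {p a b : ℕ} (h : Pm p a b) : Pm p b a := by
  rcases h with h | h
  · exact Or.inl h.symm
  · right; rw [h, neg_neg]

theorem Pm.trans {p a b c : ℕ} (h1 : Pm p a b) (h2 : Pm p b c) : Pm p a c := by
  unfold Pm at *
  rcases h1 with h1 | h1 <;> rcases h2 with h2 | h2 <;> rw [h1, h2] <;> simp

theorem Pm.prod {p : ℕ} {s : Finset ℕ} {f g : ℕ → ℕ} (h : ∀ x ∈ s, Pm p (f x) (g x)) :
    Pm p (∏ x ∈ s, f x) (∏ x ∈ s, g x) := by
  induction s using Finset.induction_on with
  | empty => left; rfl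
  | insert a s ha ih =>
    rw [prod_insert ha, prod_insert ha]
    exact (h a (mem_insert_self a s)).mul (ih fun x hx => h x (mem_insert_of_mem hx))

theorem Pm.cancel {p a b c : ℕ} (hp : p.Prime) (hc : ¬ p ∣ c) (h : Pm p (a * c) (b * c)) : Pm p a b := by
  have := Fact.mk hp
  have hc0 : (c : ZMod p) ≠ 0 := by
    rwa [Ne, ZMod.natCast_eq_zero_iff]
  unfold Pm at *
  rw [Nat.cast_mul, Nat.cast_mul] at h
  rcases h with h | h
  · left; exact mul_right_cancel₀ hc0 h
  · right; rw [← neg_mul] at h; exact mul_right_cancel₀ hc0 h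

theorem pm_add {p a : ℕ} : Pm p (a + p) a := by
  left
  rw [Nat.cast_add, ZMod.natCast_self, add_zero]

theorem pm_ds {p y z : ℕ} : Pm p (ds (y + p) z) (ds y z) := by
  unfold ds
  rcases le_or_gt z y with h | h
  · rw [show y + p - z + (z - (y + p)) = (y - z + (z - y)) + p by omega]
    exact pm_add
  · rcases le_or_gt z (y + p) with h2 | h2
    · right
      have h3 : (y + p - z + (z - (y + p))) + (y - z + (z - y)) = p := by omega
      rw [← add_eq_zero_iff_eq_neg, ← Nat.cast_add, h3, ZMod.natCast_self]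
    · rw [show y - z + (z - y) = (y + p - z + (z - (y + p))) + p by omega]
      exact pm_add.symm

theorem asc_pm {p : ℕ} (y : ℕ) : (((p + 1).ascFactorial y : ℕ) : ZMod p) = (y.factorial : ℕ) := by
  induction y with
  | zero => rw [Nat.ascFactorial_zero, Nat.factorial_zero]
  | succ y ih =>
    rw [Nat.ascFactorial_succ, Nat.factorial_succ, Nat.cast_mul, ih, Nat.cast_mul]
    congr 1
    rw [show p + 1 + y = (y + 1) + p by ring, Nat.cast_add, ZMod.natCast_self, add_zero]

theorem fact_add {p : ℕ} (hp : p.Prime) (y : ℕ) :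
    (y + p).factorial = p * ((p - 1).factorial * (p + 1).ascFactorial y) := by
  rw [add_comm y p, ← Nat.factorial_mul_ascFactorial, ← Nat.mul_factorial_pred hp.ne_zero, mul_assoc]

theorem wilson_pm {p : ℕ} (hp : p.Prime) (y : ℕ) : Pm p ((p - 1).factorial * (p + 1).ascFactorial y) y.factorial := by
  have := Fact.mk hp
  right
  rw [Nat.cast_mul, ZMod.wilsons_lemma, asc_pm, neg_one_mul]

theorem not_dvd_prod {p : ℕ} (pp : p.Prime) {s : Finset ℕ} {f : ℕ → ℕ} (h : ∀ z ∈ s, ¬ p ∣ f z) : ¬ p ∣ ∏ z ∈ s, f z := by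
  rw [Prime.dvd_finsetProd_iff pp.prime]
  rintro ⟨z, hz, hd⟩
  exact h z hz hd

/-- **Moving a bead by `p`.** -/
theorem core_pm {p y : ℕ} (pp : p.Prime) {Y : Finset ℕ} (hyp : y < p) (hx : y + p ∉ Y) (hy : y ∉ Y)
    (hz : ∀ z ∈ Y, ¬ p ∣ ds y z) :
    ∃ A, hp (insert (y + p) Y) = p * A ∧ Pm p A (hp (insert y Y)) := by
  have hz' : ∀ z ∈ Y, ¬ p ∣ ds (y + p) z := by
    intro z hzY hd
    apply hz z hzY
    have := Fact.mk pp
    rw [← ZMod.natCast_eq_zero_iff] at hd ⊢
    rcases pm_ds (p := p) (y := y) (z := z) with h | h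
    · rw [← h, hd]
    · rw [← neg_eq_zero, ← h, hd]
  have h1 := hp_move hx hy
  have h2 : ¬ p ∣ (∏ z ∈ Y, ds (y + p) z) * y.factorial := by
    intro h
    rcases pp.dvd_mul.1 h with h | h
    · exact not_dvd_prod pp hz' h
    · rw [pp.dvd_factorial] at h
      omega
  rw [fact_add pp] at h1
  have h3 : p ∣ hp (insert (y + p) Y) := by
    have h4 : p ∣ hp (insert (y + p) Y) * ((∏ z ∈ Y, ds (y + p) z) * y.factorial) := by
      rw [← mul_assoc, h1]
      exact ⟨hp (insert y Y) * (∏ z ∈ Y, ds y z) * ((p - 1).factorial * (p + 1).ascFactorial y), by ring⟩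
    exact (pp.dvd_mul.1 h4).resolve_right h2
  obtain ⟨A, hA⟩ := h3
  refine ⟨A, hA, ?_⟩
  have h4 : A * ((∏ z ∈ Y, ds (y + p) z) * y.factorial) =
      hp (insert y Y) * ((∏ z ∈ Y, ds y z) * ((p - 1).factorial * (p + 1).ascFactorial y)) := by
    apply Nat.eq_of_mul_eq_mul_left pp.pos
    calc p * (A * ((∏ z ∈ Y, ds (y + p) z) * y.factorial)) = (p * A) * (∏ z ∈ Y, ds (y + p) z) * y.factorial := by ring
      _ = _ := by rw [← hA, h1]; ring
  apply Pm.cancel pp h2
  rw [h4]
  exact (show Pm p (hp (insert y Y)) (hp (insert y Y)) from Or.inl rfl).mul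
    ((Pm.prod (fun z _ => pm_ds.symm)).mul (wilson_pm pp y))

/-- the degrees -/
theorem deg_pm {p y c d e : ℕ} (pp : p.Prime) {Y : Finset ℕ} (hyp : y < p) (hx : y + p ∉ Y) (hy : y ∉ Y)
    (hz : ∀ z ∈ Y, ¬ p ∣ ds y z) (hc : c < p) (hd : d * hp (insert (y + p) Y) = (c + p).factorial)
    (he : e * hp (insert y Y) = c.factorial) : Pm p d e := by
  obtain ⟨A, hA, hA2⟩ := core_pm pp hyp hx hy hz
  have h1 : d * A = (p - 1).factorial * (p + 1).ascFactorial c := by
    apply Nat.eq_of_mul_eq_mul_left pp.pos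
    rw [← fact_add pp, ← hd, hA]
    ring
  have h2 : ¬ p ∣ hp (insert y Y) := by
    intro h
    have h3 : p ∣ c.factorial := by rw [← he]; exact h.mul_left e
    rw [pp.dvd_factorial] at h3
    omega
  apply Pm.cancel pp h2
  rw [he]
  refine Pm.trans ?_ (wilson_pm pp c)
  rw [← h1]
  exact (show Pm p d d from Or.inl rfl).mul hA2.symm

/-- **The degree modulo `p`.** -/
theorem core_mod {p c d : ℕ} (pp : p.Prime) (hc : c < p) (hd : IsDeg (c + p) d) (hpd : ¬ p ∣ d) :
    ∃ e, IsDeg c e ∧ Pm p d e := by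
  obtain ⟨l, hl, he⟩ := hd
  have hlen : l.length ≤ l.sum := by
    have h11 : ∀ c ∈ l, 1 ≤ c := fun c hc => hl.pos c hc
    have := List.card_nsmul_le_sum _ 1 h11
    simpa using this
  have hD : Dec l := hl.sorted
  have h0 : hookProd l = hp (bd l) := hookProd_eq_hp hD
  rw [h0] at he
  -- the beads are positive and at most `n`
  have hpos : ∀ x ∈ bd l, 0 < x := by
    have : ∀ m : List ℕ, (∀ a ∈ m, 0 < a) → ∀ x ∈ bd m, 0 < x := by
      intro m
      induction m with
      | nil => intro _ x hx; simp [bd] at hx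
      | cons a m ih =>
        intro h x hx
        rw [bd, mem_insert] at hx
        rcases hx with rfl | hx
        · have := h a (by simp); omega
        · exact ih (fun b hb => h b (List.mem_cons_of_mem _ hb)) x hx
    exact this l hl.pos
  have hle : ∀ x ∈ bd l, x ≤ c + p := by
    intro x hx
    have hs := hl.sum
    cases l with
    | nil => simp [bd] at hx
    | cons a l =>
      rw [bd, mem_insert] at hx
      have h1 : ∀ c ∈ l, 1 ≤ c := fun c hc => hl.pos c (List.mem_cons_of_mem _ hc)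
      have h2 : l.length ≤ l.sum := by
        have := List.card_nsmul_le_sum _ 1 h1
        simpa using this
      rw [List.sum_cons] at hs
      rcases hx with rfl | hx
      · omega
      · have := lt_of_mem_bd l a (fun _ hb => List.rel_of_pairwise_cons hD hb) x hx
        omega
  have hdv : p ∣ hp (bd l) := by
    have h1 : p ∣ d * hp (bd l) := by rw [he]; exact (pp.dvd_factorial).2 (by omega)
    exact (pp.dvd_mul.1 h1).resolve_left hpd
  rw [hp, Prime.dvd_finsetProd_iff pp.prime] at hdv
  obtain ⟨x, hx, hdv⟩ := hdv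
  rw [Prime.dvd_finsetProd_iff pp.prime] at hdv
  obtain ⟨y, hy, hdv⟩ := hdv
  rw [mem_filter, mem_range] at hy
  have hxle := hle x hx
  have hxy : x = y + p := by
    obtain ⟨k, hk⟩ := hdv
    have hk0 : k ≠ 0 := by rintro rfl; omega
    have hk1 : k = 1 := by
      by_contra hne
      have : 2 ≤ k := by omega
      have : p * 2 ≤ p * k := Nat.mul_le_mul_left p this
      omega
    rw [hk1, mul_one] at hk
    omega
  subst hxy
  have hY : insert (y + p) ((bd l).erase (y + p)) = bd l := insert_erase hx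
  have hyY : y ∉ (bd l).erase (y + p) := fun h => hy.2 (mem_of_mem_erase h)
  have hz : ∀ z ∈ (bd l).erase (y + p), ¬ p ∣ ds y z := by
    intro z hz ⟨k, hk⟩
    have hz1 := hle z (mem_of_mem_erase hz)
    have hz2 := ne_of_mem_erase hz
    have hz3 := hpos z (mem_of_mem_erase hz)
    have hz4 : z ≠ y := fun h => hy.2 (h ▸ mem_of_mem_erase hz)
    unfold ds at hk
    have hk0 : k ≠ 0 := by rintro rfl; omega
    have hk1 : k = 1 := by
      by_contra hne
      have : 2 ≤ k := by omega
      have : p * 2 ≤ p * k := Nat.mul_le_mul_left p this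
      omega
    rw [hk1, mul_one] at hk
    omega
  have hsum := sum_bd hD
  have hs1 : ∑ x ∈ bd l, x = (y + p) + ∑ x ∈ (bd l).erase (y + p), x := by
    conv_lhs => rw [← hY]
    rw [sum_insert (notMem_erase _ _)]
  have hs2 : l.length = ((bd l).erase (y + p)).card + 1 := by
    rw [← card_bd hD]
    conv_lhs => rw [← hY]
    rw [card_insert_of_notMem (notMem_erase _ _)]
  rw [hs1, hl.sum, hs2] at hsum
  obtain ⟨l', h1, h2⟩ := exists_part (X := insert y ((bd l).erase (y + p))) (n := c) (by
    rw [sum_insert hyY, card_insert_of_notMem hyY]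
    omega)
  obtain ⟨e, -, he2⟩ := exists_deg h1.sorted h1.sum
  refine ⟨e, ⟨l', h1, he2⟩, ?_⟩
  refine deg_pm (Y := (bd l).erase (y + p)) pp (by omega) (notMem_erase _ _) hyY hz hc ?_ (by rw [← h2, he2])
  rw [hY, he]

end Cfsg.Agent.H797.AD
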