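import Cfsg.Agent.H357.Syl

/-!
# Pure hooks (helper797, S4766)

`pure_hook` : `(m + t)! (m - t)! ≠ 2 (m !)²` for `m ≥ 2` (Sylvester's theorem).
-/

set_option autoImplicit false

namespace Cfsg.Agent.H797.AD

open Finset

/-- the small cases -/
theorem pure_small : ∀ m < 13, 2 ≤ m → ∀ t < m + 1, (m + t).factorial * (m - t).factorial ≠ 2 * m.factorial ^ 2 := by
  decide +kernel

theorem prime_dvd_asc {r a k : ℕ} (hr : r.Prime) (h : r ∣ a.ascFactorial k) : ∃ j < k, r ∣ a + j := by
  induction k with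
  | zero => rw [Nat.ascFactorial_zero] at h; exact absurd (Nat.dvd_one.1 h) hr.one_lt.ne'
  | succ k ih =>
    rw [Nat.ascFactorial_succ] at h
    rcases hr.dvd_mul.1 h with h | h
    · exact ⟨k, by omega, h⟩
    · obtain ⟨j, hj, h⟩ := ih h
      exact ⟨j, by omega, h⟩

theorem dvd_asc {r a k j : ℕ} (hj : j < k) (h : r ∣ a + j) : r ∣ a.ascFactorial k := by
  induction k with
  | zero => omega
  | succ k ih =>
    rw [Nat.ascFactorial_succ]
    rcases Nat.lt_or_ge j k with h1 | h1
    · exact (ih h1).mul_left _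
    · have : j = k := by omega
      subst this
      exact h.mul_right _

/-- the ratio for large `t` -/
theorem asc_ratio {a t : ℕ} (h : a ≤ 2 * t) (k : ℕ) (hk : k ≤ t) :
    4 ^ k * (a + 1).ascFactorial k ≤ 3 ^ k * (a + t + 1).ascFactorial k := by
  induction k with
  | zero => simp
  | succ k ih =>
    have ih' := ih (by omega)
    rw [Nat.ascFactorial_succ, Nat.ascFactorial_succ, pow_succ, pow_succ]
    have h1 : 4 * (a + 1 + k) ≤ 3 * (a + t + 1 + k) := by omega
    calc 4 ^ k * 4 * ((a + 1 + k) * (a + 1).ascFactorial k)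
        = (4 * (a + 1 + k)) * (4 ^ k * (a + 1).ascFactorial k) := by ring
      _ ≤ (3 * (a + t + 1 + k)) * (3 ^ k * (a + t + 1).ascFactorial k) := Nat.mul_le_mul h1 ih'
      _ = _ := by ring

/-- **Pure hooks.** -/
theorem pure_hook {m t : ℕ} (hm : 2 ≤ m) (ht : t ≤ m) : (m + t).factorial * (m - t).factorial ≠ 2 * m.factorial ^ 2 := by
  rcases Nat.lt_or_ge m 13 with h13 | h13
  · exact pure_small m h13 hm t (by omega)
  intro heq
  obtain ⟨a, rfl⟩ : ∃ a, m = a + t := ⟨m - t, by omega⟩
  rw [Nat.add_sub_cancel] at heq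
  have h1 : (a + t + 1).ascFactorial t = 2 * (a + 1).ascFactorial t := by
    have e1 := Nat.factorial_mul_ascFactorial (a + t) t
    have e2 := Nat.factorial_mul_ascFactorial a t
    rw [← e1, pow_two] at heq
    have hpos : 0 < (a + t).factorial * a.factorial := Nat.mul_pos (Nat.factorial_pos _) (Nat.factorial_pos _)
    apply Nat.eq_of_mul_eq_mul_left hpos
    calc (a + t).factorial * a.factorial * (a + t + 1).ascFactorial t
        = (a + t).factorial * (a + t + 1).ascFactorial t * a.factorial := by ring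
      _ = 2 * ((a + t).factorial * (a + t).factorial) := heq
      _ = 2 * ((a + t).factorial * (a.factorial * (a + 1).ascFactorial t)) := by rw [e2]
      _ = _ := by ring
  have ht1 : 1 ≤ t := by
    rcases Nat.eq_zero_or_pos t with rfl | h0
    · simp at h1
    · exact h0
  rcases Nat.lt_or_ge (2 * t) a with hta | hta
  · -- a prime `r > 2 t` dividing a number of the window
    have hex : ∃ r i : ℕ, r.Prime ∧ 2 * t < r ∧ a < i ∧ i ≤ a + 2 * t ∧ r ∣ i := by
      by_cases hgap : ∀ p : ℕ, p.Prime → p ≤ a + 2 * t → p ≤ a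
      · obtain ⟨r, i, hr, -, h2, h3, h4, h5⟩ := Cfsg.Agent.H357.NT.exists_large_dvd (n := a + 2 * t) (m := a)
          (by omega) (by omega) hgap
        exact ⟨r, i, hr, by omega, h3, h4, h5⟩
      · push Not at hgap
        obtain ⟨p, hp, h2, h3⟩ := hgap
        exact ⟨p, p, hp, by omega, h3, h2, dvd_rfl⟩
    obtain ⟨r, i, hr, h2, h3, h4, h5⟩ := hex
    rcases Nat.lt_or_ge i (a + t + 1) with hi | hi
    · have h6 : r ∣ (a + 1).ascFactorial t := dvd_asc (j := i - (a + 1)) (by omega) (by
        rw [show a + 1 + (i - (a + 1)) = i by omega]; exact h5)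
      have h7 : r ∣ (a + t + 1).ascFactorial t := by rw [h1]; exact h6.mul_left 2
      obtain ⟨j, hj, h8⟩ := prime_dvd_asc hr h7
      have h9 := Nat.dvd_sub h8 h5
      have := Nat.le_of_dvd (by omega) h9
      omega
    · have h6 : r ∣ (a + t + 1).ascFactorial t := dvd_asc (j := i - (a + t + 1)) (by omega) (by
        rw [show a + t + 1 + (i - (a + t + 1)) = i by omega]; exact h5)
      rw [h1] at h6
      rcases hr.dvd_mul.1 h6 with h7 | h7
      · have := Nat.le_of_dvd (by omega) h7
        omega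
      · obtain ⟨j, hj, h8⟩ := prime_dvd_asc hr h7
        have h9 := Nat.dvd_sub h5 h8
        have := Nat.le_of_dvd (by omega) h9
        omega
  · have h2 := asc_ratio hta t le_rfl
    rw [h1] at h2
    have h3 : 0 < (a + 1).ascFactorial t := Nat.ascFactorial_pos _ _
    have h4 : 4 ^ t ≤ 3 ^ t * 2 := by
      apply Nat.le_of_mul_le_mul_right _ h3
      calc 4 ^ t * (a + 1).ascFactorial t ≤ 3 ^ t * (2 * (a + 1).ascFactorial t) := h2
        _ = _ := by ring
    have ht5 : 5 ≤ t := by omega
    have h5 : 3 ^ t * 2 < 4 ^ t := by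
      obtain ⟨s, rfl⟩ : ∃ s, t = s + 5 := ⟨t - 5, by omega⟩
      rw [pow_add, pow_add]
      have : 3 ^ s ≤ 4 ^ s := Nat.pow_le_pow_left (by norm_num) s
      have h6 : 0 < 4 ^ s := by positivity
      nlinarith
    omega

end Cfsg.Agent.H797.AD
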