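import Cfsg.Agent.H797.AD.CoreStr
import Cfsg.Agent.H704.Enum

/-!
# The check for the small degrees (helper797, S4766)
-/

set_option autoImplicit false

namespace Cfsg.Agent.H797.AD

open Finset Cfsg.Agent.H704 Cfsg.Agent.H614

/-- the list of the beads -/
def bdl : List ℕ → List ℕ
  | [] => []
  | a :: l => (a + l.length) :: bdl l

theorem toFinset_bdl (l : List ℕ) : (bdl l).toFinset = bd l := by
  induction l with
  | nil => rfl
  | cons a l ih => rw [bdl, bd, List.toFinset_cons, ih]

theorem nodup_bdl : ∀ {l : List ℕ}, Dec l → (bdl l).Nodup := by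
  intro l
  induction l with
  | nil => intro _; exact List.nodup_nil
  | cons a l ih =>
    intro h
    rw [bdl, List.nodup_cons]
    refine ⟨?_, ih h.of_cons⟩
    rw [← List.mem_toFinset, toFinset_bdl]
    exact notMem_bd h

theorem prod_erase_bd {l : List ℕ} (h : Dec l) (y : ℕ) (f : ℕ → ℕ) :
    ∏ z ∈ (bd l).erase y, f z = (((bdl l).filter (fun z => !Nat.beq z y)).map f).prod := by
  rw [← List.prod_toFinset _ ((nodup_bdl h).filter _)]
  refine Finset.prod_congr ?_ fun _ _ => rfl
  ext z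
  rw [mem_erase, List.mem_toFinset, List.mem_filter, ← toFinset_bdl, List.mem_toFinset, and_comm]
  have : (!Nat.beq z y) = true ↔ z ≠ y := by
    rw [Bool.not_eq_true', ← Bool.not_eq_true, Nat.beq_eq]
  rw [this]

/-- the residue test -/
def resTest (p f e : ℕ) : Bool := !Nat.beq (Nat.mod (2 * e) p) (Nat.mod f p) && !Nat.beq (Nat.mod (2 * e + f) p) 0

/-- the test of the positions -/
def posTest (n p H0 : ℕ) (κ : List ℕ) (H : ℕ) : Bool :=
  (List.range (n + 1)).all fun k =>
    (bdl (κ ++ List.replicate k 0)).all fun y =>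
      (!Nat.beq k 0 && !Nat.beq y 0) ||
      !Nat.beq (2 * H0 * (((bdl (κ ++ List.replicate k 0)).filter (fun z => !Nat.beq z y)).map (ds (y + p))).prod * y.factorial)
        (H * (((bdl (κ ++ List.replicate k 0)).filter (fun z => !Nat.beq z y)).map (ds y)).prod * (y + p).factorial)

/-- primality -/
def isP (p : ℕ) : Bool := Nat.ble 2 p && (List.range p).all fun d => Nat.ble d 1 || !Nat.beq (Nat.mod p d) 0

theorem prime_of_isP {p : ℕ} (h : isP p = true) : p.Prime := by
  rw [isP, Bool.and_eq_true, List.all_eq_true] at h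
  obtain ⟨h1, h2⟩ := h
  have h1' : 2 ≤ p := Nat.le_of_ble_eq_true h1
  rw [Nat.prime_def]
  refine ⟨h1', ?_⟩
  intro m hm
  by_contra hne
  rw [not_or] at hne
  have h3 : m ≤ p := Nat.le_of_dvd (by omega) hm
  have h4 := h2 m (by rw [List.mem_range]; omega)
  rw [Bool.or_eq_true] at h4
  rcases h4 with h4 | h4
  · have h5 : m ≤ 1 := Nat.le_of_ble_eq_true h4
    have : m ≠ 0 := by rintro rfl; rw [zero_dvd_iff] at hm; omega
    omega
  · have h5 : Nat.mod p m = 0 := Nat.mod_eq_zero_of_dvd hm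
    rw [h5] at h4
    simp at h4

/-- the full check -/
def chkN (n p : ℕ) (ν : List ℕ) : Bool :=
  isP p && decide (p = 2 * (p / 2) + 1) && decide (p ≤ n) && decide (n - p < p) && decide (ν.Pairwise (· ≥ ·)) &&
    (ν.all fun a => decide (0 < a)) && decide (ν.sum = n - p) && decide (transpose ν = ν) && decide (ν.headD 0 ≤ p / 2) &&
    decide (ν.length ≤ p / 2) &&
    go (fun κ H => resTest p (Nat.div (n - p).factorial (hookProd ν)) (Nat.div (n - p).factorial H) ||
      posTest n p (hookProd (lamb ν (p / 2))) κ H) (n - p + 1) (n - p) 1 [] 1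

theorem notHalf_of_chkN {n p : ℕ} {ν : List ℕ} (h : chkN n p ν = true) : NotHalf n := by
  rw [chkN] at h
  simp only [Bool.and_eq_true, decide_eq_true_eq, List.all_eq_true] at h
  obtain ⟨⟨⟨⟨⟨⟨⟨⟨⟨⟨h1, h2⟩, h3⟩, h4⟩, h5⟩, h6⟩, h7⟩, h8⟩, h9⟩, h10⟩, h11⟩ := h
  obtain ⟨c, rfl⟩ : ∃ c, n = c + p := ⟨n - p, by omega⟩
  rw [Nat.add_sub_cancel] at h4 h7 h11
  obtain ⟨h, hh⟩ : ∃ h, h = p / 2 := ⟨_, rfl⟩
  rw [← hh] at h2 h9 h10 h11
  have pp := prime_of_isP h1
  have hν : IsPart ν c := ⟨h5, h6, h7⟩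
  have hlam : IsPart (lamb ν h) (c + p) := by
    have := isPart_lamb hν h9 h10
    rwa [← h2] at this
  refine ⟨lamb ν h, hlam, transpose_lamb hν h8 h10, ?_⟩
  intro l' hl' heq
  obtain ⟨d, -, hd⟩ := exists_deg hlam.sorted hlam.sum
  obtain ⟨d', hd0, hd'⟩ := exists_deg hl'.sorted hl'.sum
  obtain ⟨f, -, hf⟩ := exists_deg hν.sorted hν.sum
  have hH0 : 0 < hookProd (lamb ν h) := hookProd_pos hlam.sorted
  have hdd : d = 2 * d' := by
    apply Nat.eq_of_mul_eq_mul_right hH0
    rw [hd, ← hd', heq]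
    ring
  have hpm := deg_lamb pp h2 h4 hν h9 h10 hd hf
  have hpf : ¬ p ∣ f := by
    intro hdv
    have h3 : p ∣ c.factorial := by rw [← hf]; exact hdv.mul_right _
    rw [pp.dvd_factorial] at h3
    omega
  have hpd : ¬ p ∣ d := by
    intro hdv
    apply hpf
    have := Fact.mk pp
    rw [← ZMod.natCast_eq_zero_iff] at hdv ⊢
    rcases hpm with h | h
    · rw [← h, hdv]
    · rw [← neg_eq_zero, ← h, hdv]
  have hpd' : ¬ p ∣ d' := fun h => hpd (by rw [hdd]; exact h.mul_left 2)
  obtain ⟨κ, hκ, hκe, k, y, hk, hky, hy, hyp, hbd, hhp⟩ := core_str pp h4 hl' hd' hpd'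
  obtain ⟨e, -, he⟩ := exists_deg hκ.sorted hκ.sum
  have hpe := hκe e he
  have h12 := check_of_isPart h11 hκ
  have hdiv : ∀ (f : ℕ) (ν : List ℕ), IsPart ν c → f * hookProd ν = c.factorial → Nat.div c.factorial (hookProd ν) = f := by
    intro f ν hν hf
    rw [← hf]
    exact Nat.mul_div_cancel f (hookProd_pos hν.sorted)
  rw [hdiv f ν hν hf, hdiv e κ hκ he, Bool.or_eq_true] at h12
  rcases h12 with h12 | h12
  · rw [resTest, Bool.and_eq_true] at h12
    have h13 : Pm p (2 * e) f := by
      refine Pm.trans (Pm.symm ?_) hpm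
      rw [hdd]
      exact (show Pm p 2 2 from Or.inl rfl).mul hpe
    rcases h13 with h13 | h13
    · rw [ZMod.natCast_eq_natCast_iff'] at h13
      have : Nat.mod (2 * e) p = Nat.mod f p := h13
      rw [this] at h12
      simp at h12
    · have h14 : ((2 * e + f : ℕ) : ZMod p) = 0 := by
        rw [Nat.cast_add, h13, neg_add_cancel]
      rw [ZMod.natCast_eq_zero_iff] at h14
      have : Nat.mod (2 * e + f) p = 0 := Nat.mod_eq_zero_of_dvd h14
      rw [this] at h12
      simp at h12
  · rw [posTest, List.all_eq_true] at h12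
    have h13 := h12 k (by rw [List.mem_range]; omega)
    rw [List.all_eq_true] at h13
    have h14 := h13 y (by rw [← List.mem_toFinset, toFinset_bdl]; exact hy)
    rw [Bool.or_eq_true] at h14
    rcases h14 with h14 | h14
    · rcases hky with rfl | rfl
      · simp at h14
      · simp at h14
    · have hD : Dec (κ ++ List.replicate k 0) := by
        refine List.pairwise_append.2 ⟨hκ.sorted, List.pairwise_replicate.2 (Or.inr le_rfl), ?_⟩
        intro a _ b hb
        rw [(List.mem_replicate.1 hb).2]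
        exact Nat.zero_le _
      have h15 := hp_move hyp (notMem_erase y _)
      rw [← hbd, ← hookProd_eq_hp hl'.sorted, insert_erase hy, hhp, heq, prod_erase_bd hD, prod_erase_bd hD] at h15
      rw [h15] at h14
      simp at h14

/-- a table -/
def chkAll : ℕ → List (ℕ × List ℕ) → Bool
  | _, [] => true
  | n, (p, ν) :: t => chkN n p ν && chkAll (n + 1) t

theorem notHalf_of_chkAll : ∀ (t : List (ℕ × List ℕ)) (n : ℕ), chkAll n t = true → ∀ m, n ≤ m → m < n + t.length → NotHalf m := by
  intro t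
  induction t with
  | nil => intro n _ m h1 h2; rw [List.length_nil] at h2; omega
  | cons a t ih =>
    obtain ⟨p, ν⟩ := a
    intro n h m h1 h2
    rw [chkAll, Bool.and_eq_true] at h
    rw [List.length_cons] at h2
    rcases Nat.eq_or_lt_of_le h1 with rfl | h3
    · exact notHalf_of_chkN h.1
    · exact ih (n + 1) h.2 m h3 (by omega)

end Cfsg.Agent.H797.AD
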